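import Cfsg.Prelude.Def_Transfer
import Mathlib.GroupTheory.PGroup
import Mathlib.GroupTheory.Commutator.Basic
import Mathlib.GroupTheory.Subgroup.Centralizer
import Mathlib.LinearAlgebra.Matrix.SpecialLinearGroup
import Mathlib.LinearAlgebra.Determinant
import Mathlib.LinearAlgebra.Eigenspace.Minpoly
import Mathlib.LinearAlgebra.Matrix.ToLin
import Mathlib.FieldTheory.IsAlgClosed.AlgebraicClosure
import Mathlib.Algebra.CharP.Basic
import Mathlib.Algebra.Module.ZMod
import Mathlib.Algebra.Field.ZMod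
import Mathlib.Tactic.Group

/-!
# Two quadratically acting generators

`H = ⟨a, b⟩` acting linearly with `(a-1)² = (b-1)² = 0` and not as a `p`-group has a homomorphism to
`SL(2, K)` whose image is not a `p`-group.

* `exists_SL2_of_linear`: the linear form (`K` any field of characteristic `p` in which the needed eigenvalue exists)
* `exists_SL2_of_pair`: `V` an elementary abelian `p`-subgroup, `K` the algebraic closure of `ZMod p`
-/

set_option autoImplicit false

namespace Cfsg.Agent.Quadratic

open scoped MatrixGroups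
open Polynomial

universe u v w

section Linear

variable {K : Type u} [Field K] {p : ℕ} [hp : Fact p.Prime] [CharP K p] {H : Type w} [Group H]

/-- The image of `ρ` is a `p`-group. -/
def PImage {M : Type*} [Monoid M] (p : ℕ) (ρ : H →* M) : Prop :=
  ∀ h : H, ∃ k : ℕ, ρ (h ^ p ^ k) = 1

omit hp in
theorem isPGroup_range_iff {G : Type*} [Group G] (φ : H →* G) :
    IsPGroup p φ.range ↔ PImage p φ := by
  constructor
  · intro h x
    obtain ⟨k, hk⟩ := h ⟨φ x, x, rfl⟩
    exact ⟨k, by rw [map_pow]; exact congrArg Subtype.val hk⟩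
  · rintro h ⟨_, x, rfl⟩
    obtain ⟨k, hk⟩ := h x
    exact ⟨k, Subtype.ext (by show φ x ^ p ^ k = 1; rw [← map_pow]; exact hk)⟩

variable {W : Type v} [AddCommGroup W] [Module K W]

theorem pow_eq_one_of_quadratic {T : Module.End K W} (h : (T - 1) * (T - 1) = 0) : T ^ p = 1 := by
  have key : ∀ n : ℕ, T ^ n = 1 + n • (T - 1) := by
    intro n
    induction n with
    | zero => simp
    | succ n ih =>
      calc T ^ (n + 1) = (1 + n • (T - 1)) * ((T - 1) + 1) := by rw [pow_succ, ih, sub_add_cancel]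
        _ = 1 + (n + 1) • (T - 1) := by
          rw [add_mul, one_mul, mul_add, smul_mul_assoc, h, smul_zero, zero_add, mul_one, succ_nsmul]
          abel
  rw [key, ← Nat.cast_smul_eq_nsmul K, CharP.cast_eq_zero, zero_smul, add_zero]

/-- Restriction of a representation to an invariant subspace. -/
def resHom (ρ : H →* Module.End K W) (U : Submodule K W) (hU : ∀ h, ∀ x ∈ U, ρ h x ∈ U) :
    H →* Module.End K U where
  toFun h := (ρ h).restrict (hU h)
  map_one' := LinearMap.ext fun x => Subtype.ext (by simp)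
  map_mul' g h := LinearMap.ext fun x => Subtype.ext (by simp)

/-- The representation on the quotient by an invariant subspace. -/
def quotHom (ρ : H →* Module.End K W) (U : Submodule K W) (hU : ∀ h, ∀ x ∈ U, ρ h x ∈ U) :
    H →* Module.End K (W ⧸ U) where
  toFun h := U.mapQ U (ρ h) (hU h)
  map_one' := by ext x; simp
  map_mul' g h := by ext x; simp

theorem quadratic_res {ρ : H →* Module.End K W} {U : Submodule K W}
    {hU : ∀ h, ∀ x ∈ U, ρ h x ∈ U} {a : H} (ha : (ρ a - 1) * (ρ a - 1) = 0) :
    (resHom ρ U hU a - 1) * (resHom ρ U hU a - 1) = 0 := by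
  refine LinearMap.ext fun x => Subtype.ext ?_
  have := LinearMap.congr_fun ha (x : W)
  simpa [resHom] using this

theorem quadratic_quot {ρ : H →* Module.End K W} {U : Submodule K W}
    {hU : ∀ h, ∀ x ∈ U, ρ h x ∈ U} {a : H} (ha : (ρ a - 1) * (ρ a - 1) = 0) :
    (quotHom ρ U hU a - 1) * (quotHom ρ U hU a - 1) = 0 := by
  refine Submodule.linearMap_qext U (LinearMap.ext fun x => ?_)
  have := LinearMap.congr_fun ha x
  simp only [Module.End.mul_apply, LinearMap.sub_apply, Module.End.one_apply,
    LinearMap.zero_apply] at this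
  simp only [quotHom, LinearMap.coe_comp, Function.comp_apply, Submodule.mkQ_apply,
    Module.End.mul_apply, LinearMap.sub_apply, Module.End.one_apply, MonoidHom.coe_mk, OneHom.coe_mk,
    Submodule.mapQ_apply, ← Submodule.Quotient.mk_sub, LinearMap.zero_apply, this,
    Submodule.Quotient.mk_zero]

theorem forall_invariant [Finite H] {a b : H} (hgen : Subgroup.closure ({a, b} : Set H) = ⊤)
    (ρ : H →* Module.End K W) (U : Submodule K W) (ha : ∀ x ∈ U, ρ a x ∈ U)
    (hb : ∀ x ∈ U, ρ b x ∈ U) : ∀ h, ∀ x ∈ U, ρ h x ∈ U := by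
  intro h
  have hmem : h ∈ Subgroup.closure ({a, b} : Set H) := hgen ▸ Subgroup.mem_top h
  induction hmem using Subgroup.closure_induction with
  | mem z hz => rcases hz with rfl | rfl <;> assumption
  | one => intro x hx; simpa using hx
  | mul g g' _ _ h1 h2 => intro x hx; rw [map_mul]; exact h1 _ (h2 _ hx)
  | inv g _ h1 =>
    have : g⁻¹ ∈ Submonoid.powers g := by
      rw [mem_powers_iff_mem_zpowers]; exact inv_mem (Subgroup.mem_zpowers g)
    obtain ⟨n, hn⟩ := this
    intro x hx
    simp only [← hn, map_pow]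
    clear hn
    induction n with
    | zero => simpa using hx
    | succ n ih => rw [pow_succ', Module.End.mul_apply]; exact h1 _ ih

/-- Every irreducible case has dimension two and gives the homomorphism. -/
theorem exists_SL2_of_irreducible [Finite H] [FiniteDimensional K W] {a b : H}
    (hgen : Subgroup.closure ({a, b} : Set H) = ⊤) (ρ : H →* Module.End K W)
    {N : ℕ} (hN : 0 < N) (hab : (a * b) ^ N = 1) (hsplit : (X ^ N - 1 : K[X]).Splits)
    (ha : (ρ a - 1) * (ρ a - 1) = 0) (hb : (ρ b - 1) * (ρ b - 1) = 0)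
    (hirr : ∀ U : Submodule K W, (∀ h, ∀ x ∈ U, ρ h x ∈ U) → U = ⊥ ∨ U = ⊤)
    (hnp : ¬ PImage p ρ) :
    ∃ φ : H →* SL(2, K), ¬ PImage p φ ∧ φ a ^ p = 1 ∧ φ b ^ p = 1 ∧
      ∃ e : W ≃ₗ[K] (Fin 2 → K), ∀ h x, e (ρ h x) = (φ h : Matrix (Fin 2) (Fin 2) K).mulVec (e x) := by
  classical
  have : Nontrivial W := by
    by_contra hW
    rw [not_nontrivial_iff_subsingleton] at hW
    exact hnp fun h => ⟨0, LinearMap.ext fun x => Subsingleton.elim _ _⟩
  -- an eigenvector of `ab`
  set T := ρ (a * b) with hT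
  have hTN : aeval T (X ^ N - 1 : K[X]) = 0 := by
    rw [map_sub, map_one, map_pow, aeval_X, hT, ← map_pow, hab, map_one, sub_self]
  have hne : (X ^ N - 1 : K[X]) ≠ 0 := X_pow_sub_C_ne_zero (n := N) hN (1 : K)
  have hs : (minpoly K T).Splits := hsplit.of_dvd hne (minpoly.dvd K T hTN)
  obtain ⟨lam, hlam⟩ := hs.exists_eval_eq_zero
    (minpoly.degree_pos (Algebra.IsIntegral.isIntegral T)).ne'
  obtain ⟨v, hv⟩ := (Module.End.hasEigenvalue_of_isRoot (f := T) (μ := lam) hlam).exists_hasEigenvector
  have hev : ρ a (ρ b v) = lam • v := by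
    have := hv.apply_eq_smul
    rwa [hT, map_mul, Module.End.mul_apply] at this
  have hv0 : v ≠ 0 := hv.2
  have q : ∀ (T : Module.End K W), (T - 1) * (T - 1) = 0 → ∀ x, T (T x) = (2 : K) • T x - x := by
    intro S hS x
    have h := LinearMap.congr_fun hS x
    simp only [Module.End.mul_apply, LinearMap.sub_apply, Module.End.one_apply, map_sub,
      LinearMap.zero_apply] at h
    rw [← sub_eq_zero, ← h, two_smul]
    abel
  have hlam0 : lam ≠ 0 := by
    intro h0
    rw [h0, zero_smul] at hev
    refine hv0 ?_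
    have h1 : ρ (b⁻¹ * a⁻¹) (ρ a (ρ b v)) = v := by
      rw [← Module.End.mul_apply, ← Module.End.mul_apply, mul_assoc, ← map_mul, ← map_mul]
      simp [mul_assoc]
    rwa [hev, map_zero, eq_comm] at h1
  -- the two-dimensional invariant subspace
  set U := Submodule.span K ({v, ρ b v} : Set W) with hU
  have hvU : v ∈ U := Submodule.subset_span (by simp)
  have hbvU : ρ b v ∈ U := Submodule.subset_span (by simp)
  have hav : ρ a v = (2 : K) • v - lam⁻¹ • ρ b v := by
    have h1 := q _ ha (ρ b v)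
    rw [hev, map_smul] at h1
    have h2 := congrArg (fun z => lam⁻¹ • z) h1
    simp only [smul_sub, smul_smul, inv_mul_cancel₀ hlam0, one_smul] at h2
    rw [h2, mul_left_comm, inv_mul_cancel₀ hlam0, mul_one]
  have hgenU : ∀ (S : Module.End K W), S v ∈ U → S (ρ b v) ∈ U → ∀ x ∈ U, S x ∈ U := by
    intro S h1 h2 x hx
    obtain ⟨c, d, rfl⟩ := Submodule.mem_span_pair.mp hx
    rw [map_add, map_smul, map_smul]
    exact U.add_mem (U.smul_mem c h1) (U.smul_mem d h2)
  have hUa : ∀ x ∈ U, ρ a x ∈ U := hgenU _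
    (hav ▸ U.sub_mem (U.smul_mem _ hvU) (U.smul_mem _ hbvU)) (hev ▸ U.smul_mem _ hvU)
  have hUb : ∀ x ∈ U, ρ b x ∈ U := hgenU _ hbvU
    (by rw [q _ hb]; exact U.sub_mem (U.smul_mem _ hbvU) hvU)
  have hUtop : U = ⊤ := (hirr U (forall_invariant hgen ρ U hUa hUb)).resolve_left fun h =>
    hv0 (by rw [h] at hvU; simpa using hvU)
  have hdim : Module.finrank K W ≤ 2 := by
    have h1 : Module.finrank K U ≤ ({v, ρ b v} : Finset W).card := by
      have e : U = Submodule.span K ((({v, ρ b v} : Finset W)) : Set W) := by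
        rw [Finset.coe_insert, Finset.coe_singleton]
      rw [e]
      exact finrank_span_finset_le_card (R := K) ({v, ρ b v} : Finset W)
    rw [hUtop, finrank_top] at h1
    exact h1.trans Finset.card_le_two
  -- determinants are trivial
  have hdet : ∀ h, LinearMap.det (ρ h) = 1 := by
    have hd : ∀ S : Module.End K W, (S - 1) * (S - 1) = 0 → LinearMap.det S = 1 := by
      intro S hS
      have h1 : LinearMap.det S ^ p = 1 := by rw [← map_pow, pow_eq_one_of_quadratic hS, map_one]
      have h2 : (LinearMap.det S - 1) ^ p = 0 := by rw [sub_pow_char, one_pow, h1, sub_self]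
      exact sub_eq_zero.mp (pow_eq_zero_iff hp.out.ne_zero |>.mp h2)
    have hle : Subgroup.closure ({a, b} : Set H) ≤ ((LinearMap.det).comp ρ).ker := by
      rw [Subgroup.closure_le]
      rintro z (rfl | rfl)
      exacts [hd _ ha, hd _ hb]
    exact fun h => hle (hgen ▸ Subgroup.mem_top h)
  -- dimension one is impossible
  rcases Nat.lt_or_ge (Module.finrank K W) 2 with h1 | h2
  · exfalso
    have h1' : Module.finrank K W = 1 := le_antisymm (Nat.lt_succ_iff.mp h1) Module.finrank_pos
    obtain ⟨e, he, hspan⟩ := finrank_eq_one_iff'.mp h1'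
    refine hnp fun h => ⟨0, LinearMap.ext fun x => ?_⟩
    obtain ⟨c, hc⟩ := hspan (ρ h e)
    obtain ⟨d, rfl⟩ := hspan x
    have hs : ρ h = c • (1 : Module.End K W) := LinearMap.ext fun y => by
      obtain ⟨d', rfl⟩ := hspan y
      simp [← hc, smul_comm d']
    have hc1 : c = 1 := by
      have := hdet h
      rwa [hs, LinearMap.det_smul, h1', pow_one, map_one, mul_one] at this
    simp [hs, hc1]
  have hd2 : Module.finrank K W = 2 := le_antisymm hdim h2
  set B := Module.finBasisOfFinrankEq K W hd2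
  let φ : H →* SL(2, K) :=
    { toFun := fun h => ⟨LinearMap.toMatrixAlgEquiv B (ρ h), by
        rw [show LinearMap.toMatrixAlgEquiv B (ρ h) = LinearMap.toMatrix B B (ρ h) from rfl,
          LinearMap.det_toMatrix, hdet]⟩
      map_one' := Subtype.ext (by simp)
      map_mul' := fun g h => Subtype.ext (by
        show LinearMap.toMatrixAlgEquiv B (ρ (g * h)) =
          LinearMap.toMatrixAlgEquiv B (ρ g) * LinearMap.toMatrixAlgEquiv B (ρ h)
        rw [map_mul, map_mul]) }
  have hφ : ∀ h, φ h = 1 ↔ ρ h = 1 := by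
    intro h
    constructor
    · intro e
      refine (LinearMap.toMatrixAlgEquiv B).injective ?_
      rw [map_one]
      exact congrArg Subtype.val e
    · intro e
      refine Subtype.ext ?_
      show LinearMap.toMatrixAlgEquiv B (ρ h) = 1
      rw [e, map_one]
  refine ⟨φ, fun h => hnp fun x => ?_, ?_, ?_, B.equivFun, fun h x => ?_⟩
  · obtain ⟨k, hk⟩ := h x
    exact ⟨k, (hφ _).mp hk⟩
  · rw [← map_pow, hφ, map_pow, pow_eq_one_of_quadratic ha]
  · rw [← map_pow, hφ, map_pow, pow_eq_one_of_quadratic hb]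
  · exact (LinearMap.toMatrix_mulVec_repr B B (ρ h) x).symm

theorem exists_SL2_of_linear_aux [Finite H] {a b : H}
    (hgen : Subgroup.closure ({a, b} : Set H) = ⊤)
    {N : ℕ} (hN : 0 < N) (hab : (a * b) ^ N = 1) (hsplit : (X ^ N - 1 : K[X]).Splits) (n : ℕ) :
    ∀ (W : Type v) [AddCommGroup W] [Module K W] [FiniteDimensional K W],
      Module.finrank K W = n → ∀ ρ : H →* Module.End K W,
      (ρ a - 1) * (ρ a - 1) = 0 → (ρ b - 1) * (ρ b - 1) = 0 → ¬ PImage p ρ →
      ∃ φ : H →* SL(2, K), ¬ PImage p φ ∧ φ a ^ p = 1 ∧ φ b ^ p = 1 := by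
  induction n using Nat.strong_induction_on with
  | _ n ih =>
  intro W _ _ _ hn ρ ha hb hnp
  by_cases hirr : ∀ U : Submodule K W, (∀ h, ∀ x ∈ U, ρ h x ∈ U) → U = ⊥ ∨ U = ⊤
  · obtain ⟨φ, h1, h2, h3, -⟩ := exists_SL2_of_irreducible hgen ρ hN hab hsplit ha hb hirr hnp
    exact ⟨φ, h1, h2, h3⟩
  push Not at hirr
  obtain ⟨U, hU, hbot, htop⟩ := hirr
  by_cases h1 : PImage p (resHom ρ U hU)
  · by_cases h2 : PImage p (quotHom ρ U hU)
    · refine absurd (fun h => ?_) hnp
      obtain ⟨k, hk⟩ := h1 h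
      obtain ⟨l, hl⟩ := h2 (h ^ p ^ k)
      refine ⟨k + l + 1, ?_⟩
      set g := (h ^ p ^ k) ^ p ^ l with hg
      have hres : ∀ x ∈ U, ρ g x = x := by
        intro x hx
        have : resHom ρ U hU g = 1 := by rw [hg, map_pow, hk, one_pow]
        exact congrArg Subtype.val (LinearMap.congr_fun this ⟨x, hx⟩)
      have hquot : ∀ x, ρ g x - x ∈ U := fun x => by
        have := LinearMap.congr_fun hl (Submodule.Quotient.mk x)
        rw [← Submodule.Quotient.eq]
        simpa [quotHom] using this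
      have hq : (ρ g - 1) * (ρ g - 1) = 0 := LinearMap.ext fun x => by
        simp only [Module.End.mul_apply, LinearMap.sub_apply, Module.End.one_apply,
          LinearMap.zero_apply]
        rw [hres _ (hquot x), sub_self]
      have := pow_eq_one_of_quadratic (p := p) hq
      rw [← map_pow, hg] at this
      rw [pow_succ, pow_add, pow_mul, pow_mul]
      exact this
    · have hlt : Module.finrank K (W ⧸ U) < n := by
        have h3 := U.finrank_quotient_add_finrank
        have : 0 < Module.finrank K U := by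
          rw [Nat.pos_iff_ne_zero, Ne, Submodule.finrank_eq_zero]; exact hbot
        omega
      exact ih _ hlt _ rfl _ (quadratic_quot ha) (quadratic_quot hb) h2
  · have hlt : Module.finrank K U < n := hn ▸ Submodule.finrank_lt htop
    exact ih _ hlt _ rfl _ (quadratic_res ha) (quadratic_res hb) h1

/-- Two quadratic generators whose image is not a `p`-group map to `SL(2, K)` likewise. -/
theorem exists_SL2_of_linear [Finite H] {a b : H} (hgen : Subgroup.closure ({a, b} : Set H) = ⊤)
    {W : Type v} [AddCommGroup W] [Module K W] [FiniteDimensional K W] (ρ : H →* Module.End K W)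
    {N : ℕ} (hN : 0 < N) (hab : (a * b) ^ N = 1) (hsplit : (X ^ N - 1 : K[X]).Splits)
    (ha : (ρ a - 1) * (ρ a - 1) = 0) (hb : (ρ b - 1) * (ρ b - 1) = 0) (hnp : ¬ PImage p ρ) :
    ∃ φ : H →* SL(2, K), ¬ PImage p φ ∧ φ a ^ p = 1 ∧ φ b ^ p = 1 :=
  exists_SL2_of_linear_aux hgen hN hab hsplit _ W rfl ρ ha hb hnp

end Linear

/-! ### The action on an elementary abelian subgroup -/

section Conj

variable {G : Type u} [Group G] {p : ℕ} [hp : Fact p.Prime]

open Subgroup
open scoped commutatorElement

/-- Conjugation by `g ∈ N(V)` as an endomorphism of the additive group of `V`. -/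
def conjAdd (V : Subgroup G) {g : G} (hg : g ∈ normalizer (V : Set G)) :
    Additive V →+ Additive V where
  toFun x := Additive.ofMul ⟨g * (Additive.toMul x : V) * g⁻¹,
    (mem_normalizer_iff.mp hg _).mp (Additive.toMul x : V).2⟩
  map_zero' := congrArg Additive.ofMul (Subtype.ext (by simp))
  map_add' x y := congrArg Additive.ofMul (Subtype.ext (by
    show g * (((Additive.toMul x : V) : G) * (Additive.toMul y : V)) * g⁻¹ =
      g * (Additive.toMul x : V) * g⁻¹ * (g * (Additive.toMul y : V) * g⁻¹)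
    group))

theorem exists_SL2_of_pair [Finite G] (V H : Subgroup G) (hV : IsElementaryAbelian p V)
    (hHV : H ≤ normalizer (V : Set G)) {a b : G} (hab : H = closure {a, b})
    (ha : ⁅⁅V, zpowers a⁆, zpowers a⁆ = ⊥) (hb : ⁅⁅V, zpowers b⁆, zpowers b⁆ = ⊥)
    (hnp : ∃ h ∈ H, ∀ n : ℕ, h ^ p ^ n ∉ centralizer (V : Set G)) :
    ∃ φ : H →* SL(2, AlgebraicClosure (ZMod p)), ¬ IsPGroup p φ.range ∧
      (∀ x ∈ φ.range, x ∈ closure {y : SL(2, AlgebraicClosure (ZMod p)) | y ∈ φ.range ∧ y ^ p = 1}) ∧
      ∃ a' b' : φ.range, closure ({a', b'} : Set φ.range) = ⊤ ∧ a' ^ p = 1 ∧ b' ^ p = 1 := by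
  have haH : a ∈ H := hab ▸ subset_closure (by simp)
  have hbH : b ∈ H := hab ▸ subset_closure (by simp)
  let _ : CommGroup V := { (inferInstance : Group V) with mul_comm := hV.1.is_comm.comm }
  have : Module (ZMod p) (Additive V) := AddCommGroup.zmodModule fun x => by
    show Additive.ofMul ((Additive.toMul x) ^ p) = 0
    exact congrArg Additive.ofMul (Subtype.ext (hV.2 _ (Additive.toMul x).2))
  let ρ₀ : H →* Module.End (ZMod p) (Additive V) :=
    { toFun := fun h => (conjAdd V (hHV h.2)).toZModLinearMap p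
      map_one' := by
        refine LinearMap.ext fun x => Additive.toMul.injective (Subtype.ext ?_)
        rw [Module.End.one_apply, AddMonoidHom.coe_toZModLinearMap]
        simp [conjAdd]
      map_mul' := fun g h => by
        refine LinearMap.ext fun x => Additive.toMul.injective (Subtype.ext ?_)
        rw [Module.End.mul_apply, AddMonoidHom.coe_toZModLinearMap, AddMonoidHom.coe_toZModLinearMap,
          AddMonoidHom.coe_toZModLinearMap]
        simp only [conjAdd, AddMonoidHom.coe_mk, ZeroHom.coe_mk, toMul_ofMul, Subgroup.coe_mul]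
        group }
  have hval : ∀ (h : H) (x : Additive V),
      ((Additive.toMul (ρ₀ h x) : V) : G) = h * (Additive.toMul x : V) * (h : G)⁻¹ := fun h x => by
    simp [ρ₀, conjAdd]
  have hquad : ∀ (c : H), ⁅⁅V, zpowers (c : G)⁆, zpowers (c : G)⁆ = ⊥ →
      (ρ₀ c - 1) * (ρ₀ c - 1) = 0 := by
    intro c hc
    refine LinearMap.ext fun x => ?_
    simp only [Module.End.mul_apply, LinearMap.sub_apply, Module.End.one_apply,
      LinearMap.zero_apply]
    rw [sub_eq_zero]
    refine Additive.toMul.injective (Subtype.ext ?_)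
    rw [hval]
    have hm : ((Additive.toMul (ρ₀ c x - x) : V) : G) ∈ ⁅V, zpowers (c : G)⁆ := by
      rw [sub_eq_add_neg, toMul_add, toMul_neg, Subgroup.coe_mul, Subgroup.coe_inv, hval,
        ← commutatorElement_def, commutator_comm]
      exact commutator_mem_commutator (mem_zpowers (c : G)) (Additive.toMul x).2
    rw [commutator_eq_bot_iff_le_centralizer.mp hc hm c (mem_zpowers _)]
    group
  set K := AlgebraicClosure (ZMod p)
  set B := Module.Free.chooseBasis (ZMod p) (Additive V)
  let e : Module.End (ZMod p) (Additive V) →+*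
      Module.End K (Module.Free.ChooseBasisIndex (ZMod p) (Additive V) → K) :=
    ((Matrix.toLinAlgEquiv' (R := K)).toRingEquiv.toRingHom.comp
      ((algebraMap (ZMod p) K).mapMatrix)).comp (LinearMap.toMatrixAlgEquiv B).toRingEquiv.toRingHom
  have hinj : Function.Injective e :=
    (Matrix.toLinAlgEquiv' (R := K)).injective.comp
      ((Matrix.map_injective (algebraMap (ZMod p) K).injective).comp
        (LinearMap.toMatrixAlgEquiv B).injective)
  let ρ : H →* Module.End K (Module.Free.ChooseBasisIndex (ZMod p) (Additive V) → K) :=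
    e.toMonoidHom.comp ρ₀
  have hq : ∀ c : H, ⁅⁅V, zpowers (c : G)⁆, zpowers (c : G)⁆ = ⊥ →
      (ρ c - 1) * (ρ c - 1) = 0 := by
    intro c hc
    show (e (ρ₀ c) - 1) * (e (ρ₀ c) - 1) = 0
    rw [← map_one e, ← map_sub, ← map_mul, hquad c hc, map_zero]
  have hgen : closure ({⟨a, haH⟩, ⟨b, hbH⟩} : Set H) = ⊤ := by
    apply map_injective H.subtype_injective
    rw [MonoidHom.map_closure, Set.image_pair, ← MonoidHom.range_eq_map, range_subtype]
    exact hab.symm
  have hnp' : ¬ PImage p ρ := by
    intro hP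
    obtain ⟨h, hh, hn⟩ := hnp
    obtain ⟨k, hk⟩ := hP ⟨h, hh⟩
    refine hn k fun v hv => ?_
    have h0 : ρ₀ (⟨h, hh⟩ ^ p ^ k) = 1 := hinj (hk.trans (map_one e).symm)
    have h1 := LinearMap.congr_fun h0 (Additive.ofMul (⟨v, hv⟩ : V))
    have h2 := congrArg (fun z => ((Additive.toMul z : V) : G)) h1
    simp only [hval] at h2
    rw [mul_inv_eq_iff_eq_mul] at h2
    simpa using h2.symm
  obtain ⟨φ, hφ, hφa, hφb⟩ := exists_SL2_of_linear hgen ρ (N := Nat.card H) Nat.card_pos
    pow_card_eq_one' (IsAlgClosed.splits _) (hq _ ha) (hq _ hb) hnp'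
  have hmap : closure ({φ.rangeRestrict ⟨a, haH⟩, φ.rangeRestrict ⟨b, hbH⟩} : Set φ.range) = ⊤ := by
    rw [← Set.image_pair, ← MonoidHom.map_closure, hgen, Subgroup.map_top_of_surjective]
    exact φ.rangeRestrict_surjective
  refine ⟨φ, fun h => hφ ((isPGroup_range_iff φ).mp h), ?_, φ.rangeRestrict ⟨a, haH⟩,
    φ.rangeRestrict ⟨b, hbH⟩, hmap, Subtype.ext hφa, Subtype.ext hφb⟩
  intro x hx
  rw [MonoidHom.range_eq_map, ← hgen, MonoidHom.map_closure] at hx
  refine closure_mono ?_ hx
  rintro _ ⟨z, (rfl | rfl), rfl⟩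
  exacts [⟨⟨_, rfl⟩, hφa⟩, ⟨⟨_, rfl⟩, hφb⟩]

end Conj

end Cfsg.Agent.Quadratic
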