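import Cfsg.Agent.Lib.PSL2.Centralizer
import Cfsg.Agent.Lib.CharInt.FrobeniusKernel
import Cfsg.Agent.Lib.Abelian.Cyclic
import Cfsg.Agent.Lib.PCore.PSolvable
import Cfsg.Agent.Lib.Coprime.Sylow
import Cfsg.Agent.Lib.PGroup.ElementaryAbelian
import Cfsg.Agent.Lib.Quadratic.Pair

/-!
# Finite subgroups of `SL(2, F)` generated by elements of order `p = char F ≠ 2`

* `eq_one_of_conj_mem_cent`: a `p`-element normalizing the centralizer of a semisimple element is trivial
* `isPGroup_of_odd`: odd order and generated by elements of order `p` implies `p`-group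
* `isPGroup_of_abelian_sylow_two`: the same for abelian Sylow 2-subgroups
* `exists_SL2_three`: a `p'`-subgroup normalized and not centralized by an element of order `p`
  forces `p = 3` and gives a copy of `SL(2, 3)`
* `exists_SL2_three_of_pSolvable`
-/

set_option autoImplicit false

namespace Cfsg.Agent.Quadratic

open scoped MatrixGroups commutatorElement Pointwise
open Subgroup PSL2

variable {F : Type*} [Field F] {p : ℕ} [hp : Fact p.Prime] [CharP F p]

theorem two_ne_zero_of_odd (hp2 : p ≠ 2) : (2 : F) ≠ 0 := by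
  intro h
  have h2 : ((2 : ℕ) : F) = 0 := by exact_mod_cast h
  exact hp2 ((Nat.prime_dvd_prime_iff_eq hp.out Nat.prime_two).mp ((CharP.cast_eq_zero_iff F p 2).mp h2))

/-- An element of order dividing `p` has trace `2`. -/
theorem tr_of_pow_eq_one {u : SL(2, F)} (hu : u ^ p = 1) : tr u = 2 := by
  set M : Matrix (Fin 2) (Fin 2) F := (u : Matrix (Fin 2) (Fin 2) F)
  have hM : M ^ p = 1 := by
    have := congrArg (fun g : SL(2, F) => (g : Matrix (Fin 2) (Fin 2) F)) hu
    simpa [Matrix.SpecialLinearGroup.coe_pow] using this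
  have hnil : IsNilpotent (M - 1) := ⟨p, by
    rw [sub_pow_char_of_commute _ (Commute.one_right M), hM, one_pow, sub_self]⟩
  have h := (Matrix.isNilpotent_trace_of_isNilpotent hnil).eq_zero
  rw [Matrix.trace_sub, Matrix.trace_one, Fintype.card_fin] at h
  rw [tr_eq_trace]
  exact_mod_cast sub_eq_zero.mp h

/-- An element of trace `2` has order dividing `p`. -/
theorem pow_eq_one_of_tr {u : SL(2, F)} (hu : tr u = 2) : u ^ p = 1 := by
  set M : Matrix (Fin 2) (Fin 2) F := (u : Matrix (Fin 2) (Fin 2) F) with hM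
  rw [tr_def] at hu
  have hd := det_eq u
  have hsq : (M - 1) * (M - 1) = 0 := by
    ext i j
    fin_cases i <;> fin_cases j <;>
      simp [hM, Matrix.mul_apply, Fin.sum_univ_two]
    · linear_combination (u 0 0) * hu - hd
    · linear_combination (u 0 1) * hu
    · linear_combination (u 1 0) * hu
    · linear_combination (u 1 1) * hu - hd
  have h2 : (M - 1) ^ p = 0 := pow_eq_zero_of_le hp.out.two_le (by rw [sq, hsq])
  rw [sub_pow_char_of_commute _ (Commute.one_right M), one_pow, sub_eq_zero] at h2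
  exact Subtype.ext (by rw [Matrix.SpecialLinearGroup.coe_pow]; exact h2)

theorem pow_two_mul_of_tr_sq {g : SL(2, F)} (hg : tr g ^ 2 = 4) : g ^ (2 * p) = 1 := by
  rcases mul_eq_zero.mp (show (tr g - 2) * (tr g + 2) = 0 by linear_combination hg) with h | h
  · rw [mul_comm, pow_mul, pow_eq_one_of_tr (p := p) (sub_eq_zero.mp h), one_pow]
  · have := pow_eq_one_of_tr (p := p) (u := -g) (by rw [tr_neg]; linear_combination -h)
    rw [← Even.neg_pow (even_two_mul p), mul_comm, pow_mul, this, one_pow]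

/-- Non-central elements of the centralizer of a semisimple element are semisimple. -/
theorem mem_center_of_mem_cent {g h : SL(2, F)} (h4 : tr g ^ 2 ≠ 4) (hc : Commute h g)
    (hh : tr h ^ 2 = 4) : h ∈ center SL(2, F) := by
  by_contra hhc
  obtain ⟨x, y, a1, a2, a3, a4⟩ := exists_coords hhc hc.symm
  apply h4
  have hd := det_eq g
  have hdh := det_eq h
  rw [tr_def] at hh ⊢
  rw [a1, a2, a3, a4] at hd
  rw [a1, a4]
  linear_combination 4 * hd + y ^ 2 * hh - 4 * y ^ 2 * hdh

theorem commute_of_conj_mem {g k : SL(2, F)} (h4 : tr g ^ 2 ≠ 4)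
    (hk : Commute (k * g * k⁻¹) g) {m : ℕ} (hm : Odd m) (hkm : k ^ m = 1) (h2 : (2 : F) ≠ 0) :
    Commute k g := by
  rcases eq_or_eq_inv_of_tr_eq h4 hk (tr_conj k g) with h | h
  · exact mul_inv_eq_iff_eq_mul.mp h
  · exfalso
    have hsq : k * k * g * (k * k)⁻¹ = g := by
      rw [show k * k * g * (k * k)⁻¹ = k * (k * g * k⁻¹) * k⁻¹ by group, h,
        show k * g⁻¹ * k⁻¹ = (k * g * k⁻¹)⁻¹ by group, h, inv_inv]
    obtain ⟨n, rfl⟩ := hm
    have hk' : k = (k * k) ^ (n + 1) := by
      rw [← pow_two, ← pow_mul, show 2 * (n + 1) = (2 * n + 1) + 1 by ring, pow_succ, hkm, one_mul]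
    have hcomm : Commute k g := by
      rw [hk']
      exact (show Commute (k * k) g from mul_inv_eq_iff_eq_mul.mp hsq).pow_left _
    rw [hcomm.eq, mul_assoc, mul_inv_cancel, mul_one] at h
    have hgg : g * g = 1 := mul_eq_one_iff_eq_inv.mpr h
    rcases eq_pm_of_mul_self_eq_one h2 hgg with rfl | rfl <;> simp [tr_def] at h4 <;> norm_num at h4

/-- A `p`-element conjugating a semisimple element into its centralizer is trivial. -/
theorem eq_one_of_conj_mem_cent (hp2 : p ≠ 2) {g u : SL(2, F)} (h4 : tr g ^ 2 ≠ 4)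
    (hu : u ^ p = 1) (hc : Commute (u * g * u⁻¹) g) : u = 1 := by
  have hodd := hp.out.odd_of_ne_two hp2
  have h2 := two_ne_zero_of_odd (F := F) hp2
  have hug := commute_of_conj_mem h4 hc hodd hu h2
  have hcen := mem_center_of_mem_cent h4 hug (by rw [tr_of_pow_eq_one hu]; norm_num)
  rcases mem_center_iff_pm.mp hcen with h | h
  · exact h
  · rw [h, hodd.neg_pow, one_pow] at hu
    exact absurd hu (neg_one_ne_one h2)

theorem tr_sq_ne_four_of_coprime (hp2 : p ≠ 2) {g : SL(2, F)} (hg : g ∉ center SL(2, F))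
    (hco : (orderOf g).Coprime p) : tr g ^ 2 ≠ 4 := by
  intro h
  have h1 : orderOf g ∣ 2 :=
    (Nat.Coprime.dvd_mul_right hco).mp (orderOf_dvd_of_pow_eq_one (pow_two_mul_of_tr_sq (p := p) h))
  have : g * g = 1 := by rw [← pow_two]; exact orderOf_dvd_iff_pow_eq_one.mp h1
  exact hg (mem_center_iff_pm.mpr (eq_pm_of_mul_self_eq_one (two_ne_zero_of_odd (F := F) hp2) this))

/-! ### Odd order -/

section Finite

variable (X : Subgroup SL(2, F)) [Finite X]

theorem eq_one_of_odd_of_center (hodd : Odd (Nat.card X)) (h2 : (2 : F) ≠ 0) {x : X}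
    (hx : (x : SL(2, F)) ∈ center SL(2, F)) : x = 1 := by
  rcases mem_center_iff_pm.mp hx with h | h
  · exact Subtype.ext h
  · exfalso
    have h1 : orderOf (x : SL(2, F)) = 2 := h ▸ orderOf_neg_one h2
    rw [orderOf_coe] at h1
    have h3 := _root_.orderOf_dvd_natCard x
    rw [h1] at h3
    obtain ⟨k, hk⟩ := hodd
    omega

theorem frobeniusComplement_cent (hodd : Odd (Nat.card X)) (hp2 : p ≠ 2) {g : X}
    (h4 : tr (g : SL(2, F)) ^ 2 ≠ 4) {a : X} (ha : (a : SL(2, F)) ^ p = 1) (ha1 : a ≠ 1) :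
    IsFrobeniusComplement ((cent (g : SL(2, F))).subgroupOf X) := by
  have h2 := two_ne_zero_of_odd (F := F) hp2
  refine ⟨fun h => ?_, fun h => ?_, fun k hk => ?_⟩
  · have : g ∈ (cent (g : SL(2, F))).subgroupOf X := mem_cent.mpr (Commute.refl _)
    rw [h, mem_bot] at this
    exact h4 (by rw [this]; simp [tr_def]; norm_num)
  · have h' : a ∈ (cent (g : SL(2, F))).subgroupOf X := h ▸ mem_top a
    exact ha1 (eq_one_of_odd_of_center X hodd h2
      (mem_center_of_mem_cent h4 (mem_cent.mp h') (by rw [tr_of_pow_eq_one ha]; norm_num)))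
  · by_contra hne
    obtain ⟨x, hx, hx1⟩ := (bot_or_exists_ne_one _).resolve_left hne
    rw [mem_inf, Subgroup.mem_pointwise_smul_iff_inv_smul_mem] at hx
    obtain ⟨hxA, hxk⟩ := hx
    simp only [← map_inv, MulAut.smul_def, MulAut.conj_apply, inv_inv, mem_subgroupOf,
      mem_cent, Subgroup.coe_mul, Subgroup.coe_inv] at hxA hxk
    have hxc : (x : SL(2, F)) ∉ center SL(2, F) := fun h =>
      hx1 (eq_one_of_odd_of_center X hodd h2 h)
    have h1 : Commute ((k : SL(2, F))⁻¹ * g * k) ((k : SL(2, F))⁻¹ * x * k) := by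
      have := hxA.symm.map (MulAut.conj (k : SL(2, F))⁻¹).toMonoidHom
      simpa using this
    have hc' : ((k : SL(2, F))⁻¹ * x * k) ∉ center SL(2, F) := fun hc => hxc (by
      have := (inferInstance : (center SL(2, F)).Normal).conj_mem _ hc (k : SL(2, F))
      simpa [mul_assoc] using this)
    have h3 : Commute ((k : SL(2, F))⁻¹ * g * k) (g : SL(2, F)) :=
      cent_comm hc' h1 hxk.symm
    have h5 : Commute ((k⁻¹ : X) : SL(2, F)) (g : SL(2, F)) :=
      commute_of_conj_mem h4 (by simpa using h3) hodd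
        (by rw [← Subgroup.coe_pow, pow_card_eq_one', Subgroup.coe_one]) h2
    exact hk (inv_mem_iff.mp (mem_cent.mpr h5))

/-- A subgroup of odd order generated by elements of order `p` is a `p`-group. -/
theorem isPGroup_of_odd (hodd : Odd (Nat.card X)) (hp2 : p ≠ 2)
    (hgen : X ≤ closure {y | y ∈ X ∧ y ^ p = 1}) : IsPGroup p X := by
  have h2 := two_ne_zero_of_odd (F := F) hp2
  -- elements of trace ±2 have order dividing p
  have huni : ∀ x : X, tr (x : SL(2, F)) ^ 2 = 4 → x ^ p = 1 := by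
    intro x hx
    have h := pow_two_mul_of_tr_sq (p := p) hx
    rw [← Subgroup.coe_pow, ← Subgroup.coe_one X] at h
    have h1 : orderOf x ∣ 2 * p := orderOf_dvd_of_pow_eq_one (Subtype.ext h)
    have hco : (orderOf x).Coprime 2 :=
      ((hodd.of_dvd_nat (orderOf_dvd_natCard x)).coprime_two_left).symm
    exact orderOf_dvd_iff_pow_eq_one.mp (hco.dvd_of_dvd_mul_left h1)
  by_cases hss : ∀ x : X, tr (x : SL(2, F)) ^ 2 = 4
  · exact fun x => ⟨1, by rw [pow_one]; exact huni x (hss x)⟩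
  push Not at hss
  obtain ⟨g, h4⟩ := hss
  by_cases hex : ∀ x : X, x ^ p = 1 → x = 1
  · have hbot : X = ⊥ := by
      rw [eq_bot_iff]
      refine hgen.trans ((closure_le _).mpr ?_)
      rintro y ⟨hy, hyp⟩
      exact congrArg Subtype.val (hex ⟨y, hy⟩ (Subtype.ext hyp))
    intro x
    have : x = 1 := Subtype.ext ((eq_bot_iff_forall _).mp hbot x x.2)
    exact ⟨0, by simp [this]⟩
  push Not at hex
  obtain ⟨a, ha, ha1⟩ := hex
  have ha' : (a : SL(2, F)) ^ p = 1 := by rw [← Subgroup.coe_pow, ha, Subgroup.coe_one]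
  set A := fun g : X => (cent (g : SL(2, F))).subgroupOf X
  have hA : ∀ g : X, tr (g : SL(2, F)) ^ 2 ≠ 4 → IsFrobeniusComplement (A g) := fun g hg =>
    frobeniusComplement_cent X hodd hp2 hg ha' ha1
  have hA3 : ∀ g : X, tr (g : SL(2, F)) ^ 2 ≠ 4 → 3 ≤ Nat.card (A g) := by
    intro g hg
    have hne := (one_lt_card_iff_ne_bot _).mpr (hA g hg).1
    have := hodd.of_dvd_nat (card_subgroup_dvd_card (A g))
    obtain ⟨j, hj⟩ := this
    omega
  have hmem : ∀ g x : X, x ∉ frobeniusKernel (A g) → x ≠ 1 ∧ ∃ k : X,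
      Commute ((k⁻¹ * x * k : X) : SL(2, F)) (g : SL(2, F)) := by
    intro g x hx
    simp only [frobeniusKernel, Set.mem_ofPred_eq, not_or, not_forall, not_not] at hx
    obtain ⟨hx1, k, hk⟩ := hx
    rw [Subgroup.mem_pointwise_smul_iff_inv_smul_mem] at hk
    simp only [← map_inv, MulAut.smul_def, MulAut.conj_apply, inv_inv, A, mem_subgroupOf,
      mem_cent] at hk
    exact ⟨hx1, k, hk⟩
  obtain ⟨N, hN, -, hNc⟩ := CharInt.exists_frobeniusKernel (hA g h4)
  have hNcard := hNc.card_mul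
  have hNp : ∀ x ∈ N, x ^ p = 1 := by
    intro x hx
    refine huni x ?_
    by_contra h4x
    obtain ⟨M, hM, -, hMc⟩ := CharInt.exists_frobeniusKernel (hA x h4x)
    have hMcard := hMc.card_mul
    have hcover : (Set.univ : Set X) ⊆ (N : Set X) ∪ (M : Set X) := by
      intro y _
      by_contra hy
      rw [Set.mem_union, hN, hM, not_or] at hy
      obtain ⟨hy1, k, hk⟩ := hmem g y hy.1
      obtain ⟨-, m, hm⟩ := hmem x y hy.2
      have hyk : ∀ k : X, ((k⁻¹ * y * k : X) : SL(2, F)) ∉ center SL(2, F) := fun k hc => hy1 (by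
        have := eq_one_of_odd_of_center X hodd h2 hc
        rwa [mul_eq_one_iff_eq_inv, mul_eq_left] at this)
      -- `m x m⁻¹` and `k g k⁻¹` both commute with `y`
      have h1 : Commute (((k⁻¹ * (m * x * m⁻¹) * k : X)) : SL(2, F))
          ((k⁻¹ * y * k : X) : SL(2, F)) := by
        have := hm.symm.map (MulAut.conj ((k⁻¹ * m : X) : SL(2, F))).toMonoidHom
        simpa [mul_assoc] using this
      have h5 := cent_comm (hyk k) h1 hk.symm
      have hxN : x ∉ frobeniusKernel (A g) := by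
        rintro (rfl | h)
        · exact h4x (by simp [tr_def]; norm_num)
        · refine h (m⁻¹ * k) ?_
          rw [Subgroup.mem_pointwise_smul_iff_inv_smul_mem]
          simp only [← map_inv, MulAut.smul_def, MulAut.conj_apply, inv_inv, A, mem_subgroupOf,
            mem_cent]
          simpa [mul_assoc] using h5
      rw [← hN] at hxN
      exact hxN hx
    have h6 := Set.ncard_le_ncard hcover
    rw [Set.ncard_univ] at h6
    have h7 := h6.trans (Set.ncard_union_le _ _)
    rw [← Nat.card_coe_set_eq, ← Nat.card_coe_set_eq] at h7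
    have e1 : 3 * Nat.card N ≤ Nat.card X :=
      hNcard ▸ (mul_comm 3 _).le.trans (Nat.mul_le_mul_left _ (hA3 g h4))
    have e2 : 3 * Nat.card M ≤ Nat.card X :=
      hMcard ▸ (mul_comm 3 _).le.trans (Nat.mul_le_mul_left _ (hA3 x h4x))
    have hpos : 0 < Nat.card X := Nat.card_pos
    have h8 : Nat.card X ≤ Nat.card N + Nat.card M := h7
    omega
  have hle : X ≤ N.map X.subtype := by
    refine hgen.trans ((closure_le _).mpr ?_)
    rintro y ⟨hy, hyp⟩
    refine ⟨⟨y, hy⟩, ?_, rfl⟩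
    rw [SetLike.mem_coe, ← SetLike.mem_coe, hN]
    by_contra hy'
    obtain ⟨hy1, k, hk⟩ := hmem g _ hy'
    have hpow : ((k⁻¹ * ⟨y, hy⟩ * k : X) : SL(2, F)) ^ p = 1 := by
      have h := congrArg (MulAut.conj (k : SL(2, F))⁻¹) hyp
      rw [map_pow, map_one] at h
      simpa [mul_assoc] using h
    have := eq_one_of_odd_of_center X hodd h2
      (mem_center_of_mem_cent h4 hk (by rw [tr_of_pow_eq_one hpow]; norm_num))
    rw [mul_eq_one_iff_eq_inv, mul_eq_left] at this
    exact hy1 this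
  intro x
  obtain ⟨y, hy, hyx⟩ := hle x.2
  obtain rfl : y = x := Subtype.ext hyx
  exact ⟨1, by rw [pow_one]; exact hNp y hy⟩

/-- Generated by elements of order `p` with abelian Sylow 2-subgroups: a `p`-group. -/
theorem isPGroup_of_abelian_sylow_two (hp2 : p ≠ 2)
    (hgen : X ≤ closure {y | y ∈ X ∧ y ^ p = 1}) (T : Sylow 2 X) (hT : IsMulCommutative T) :
    IsPGroup p X := by
  have h2 := two_ne_zero_of_odd (F := F) hp2
  rcases Nat.even_or_odd (Nat.card X) with heven | hodd
  swap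
  · exact isPGroup_of_odd X hodd hp2 hgen
  exfalso
  let _ : CommGroup (T : Subgroup X) :=
    { (inferInstance : Group (T : Subgroup X)) with mul_comm := hT.is_comm.comm }
  have hcyc : IsCyclic (T : Subgroup X) := by
    by_contra hc
    obtain ⟨r, b, c, hr, hb, hcc, hbc⟩ := Abelian.exists_independent_of_not_isCyclic hc
    obtain ⟨n, hn⟩ := T.2 b
    have hr2 : r = 2 := (Nat.prime_dvd_prime_iff_eq hr Nat.prime_two).mp
      (hr.dvd_of_dvd_pow (hb ▸ orderOf_dvd_of_pow_eq_one hn))
    subst hr2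
    have hinv : ∀ t : (T : Subgroup X), orderOf t = 2 → ((t : X) : SL(2, F)) = -1 := fun t ht =>
      eq_neg_one_of_orderOf_eq_two h2 (by rw [orderOf_coe, orderOf_coe, ht])
    have : b = c := Subtype.ext (Subtype.ext ((hinv b hb).trans (hinv c hcc).symm))
    exact hbc (this ▸ mem_zpowers b)
  have hmin : (Nat.card X).minFac = 2 := Nat.minFac_eq_two_iff _ |>.mpr heven.two_dvd
  have hcomp := IsCyclic.isComplement' hmin hcyc
  set N := (MonoidHom.transferSylow T (hcyc.normalizer_le_centralizer hmin)).ker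
  have hle : (⊤ : Subgroup X) ≤ N := by
    intro x _
    have hmap : X ≤ N.map X.subtype := by
      refine hgen.trans ((closure_le _).mpr ?_)
      rintro y ⟨hy, hyp⟩
      refine ⟨⟨y, hy⟩, ?_, rfl⟩
      rw [SetLike.mem_coe, MonoidHom.mem_ker]
      set t := MonoidHom.transferSylow T (hcyc.normalizer_le_centralizer hmin) ⟨y, hy⟩
      have h1 : t ^ p = 1 := by
        rw [← map_pow]
        exact (congrArg _ (Subtype.ext hyp : (⟨y, hy⟩ : X) ^ p = 1)).trans (map_one _)
      obtain ⟨n, hn⟩ := T.2 t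
      exact orderOf_eq_one_iff.mp (Nat.eq_one_of_dvd_coprimes
        (Nat.Coprime.pow_right n ((Nat.coprime_primes hp.out Nat.prime_two).mpr hp2))
        (orderOf_dvd_of_pow_eq_one h1) (orderOf_dvd_of_pow_eq_one hn))
    obtain ⟨y, hy, hyx⟩ := hmap x.2
    obtain rfl : y = x := Subtype.ext hyx
    exact hy
  have hTbot : (T : Subgroup X) = ⊥ := by
    have := hcomp.disjoint
    rwa [top_le_iff.mp hle, top_disjoint] at this
  exact Sylow.ne_bot_of_dvd_card T heven.two_dvd hTbot

end Finite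

/-! ### An element of order `p` acting on a `p'`-subgroup -/

/-- Abelian `p'`-subgroups normalized by an element of order `p` are central. -/
theorem le_center_of_abelian (hp2 : p ≠ 2) {u : SL(2, F)} (hu : u ^ p = 1) (hu1 : u ≠ 1)
    {A : Subgroup SL(2, F)} (hab : IsMulCommutative A) (hco : ∀ g ∈ A, (orderOf g).Coprime p)
    (hn : ∀ g ∈ A, u * g * u⁻¹ ∈ A) : A ≤ center SL(2, F) := by
  intro g hg
  by_contra hgc
  exact hu1 (eq_one_of_conj_mem_cent hp2 (tr_sq_ne_four_of_coprime hp2 hgc (hco g hg)) hu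
    (PGroup.mul_comm_of_isMulCommutative hab (hn g hg) hg))

/-- Conjugation by an invertible matrix on `SL(2, F)`. -/
def conjGL (Q : GL (Fin 2) F) : SL(2, F) →* SL(2, F) where
  toFun g := ⟨(Q : Matrix (Fin 2) (Fin 2) F) * g * ((Q⁻¹ : GL (Fin 2) F) : Matrix (Fin 2) (Fin 2) F), by
    rw [Matrix.det_mul, Matrix.det_mul, g.2, mul_one, ← Matrix.det_mul, Units.mul_inv,
      Matrix.det_one]⟩
  map_one' := Subtype.ext (by simp)
  map_mul' g h := Subtype.ext (by
    show _ = _ * _
    simp [mul_assoc])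

theorem conjGL_injective (Q : GL (Fin 2) F) : Function.Injective (conjGL Q) := by
  intro g h e
  have e' := congrArg Subtype.val e
  exact Subtype.ext ((Units.mul_right_inj Q).mp ((Units.mul_left_inj Q⁻¹).mp e'))

theorem map_entry {R S : Type*} [CommRing R] [CommRing S] (f : R →+* S) (g : SL(2, R)) (i j : Fin 2) :
    (Matrix.SpecialLinearGroup.map f g) i j = f (g i j) := rfl

/-- Two elements with the relations of the standard generators give `SL(2, 3)`. -/
theorem exists_SL2_three_of_gens [CharP F 3] {x u : SL(2, F)} {X : Subgroup SL(2, F)}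
    (hx : x ∈ X) (hu : u ∈ X) (hxx : x * x = -1) (hu3 : u ^ 3 = 1) (hu1 : u ≠ 1)
    (hyx : (u * x * u⁻¹ * x) * (u * x * u⁻¹ * x) = -1) :
    ∃ ψ : SL(2, ZMod 3) →* SL(2, F), Function.Injective ψ ∧ ψ.range ≤ X := by
  have : Fact (Nat.Prime 3) := ⟨Nat.prime_three⟩
  set Mu : Matrix (Fin 2) (Fin 2) F := (u : Matrix (Fin 2) (Fin 2) F) with hMu
  set Mx : Matrix (Fin 2) (Fin 2) F := (x : Matrix (Fin 2) (Fin 2) F) with hMx
  have hxt : tr x = 0 := tr_eq_zero_of_sq_eq_neg_one hxx
  have htu : tr u = 2 := tr_of_pow_eq_one hu3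
  rw [tr_def] at hxt htu
  have hdu := det_eq u
  have hdx := det_eq x
  -- a vector fixed by `u`
  obtain ⟨v₀, v₁, hv, hf0, hf1⟩ : ∃ v₀ v₁ : F, (v₀ ≠ 0 ∨ v₁ ≠ 0) ∧
      u 0 0 * v₀ + u 0 1 * v₁ = v₀ ∧ u 1 0 * v₀ + u 1 1 * v₁ = v₁ := by
    by_cases hb : u 0 1 = 0
    · by_cases hc : u 1 0 = 0
      · exfalso
        apply hu1
        have h00 : (u 0 0 - 1) ^ 2 = 0 := by
          linear_combination (u 0 0) * htu - hdu - hb * u 1 0
        have h00' : u 0 0 = 1 := sub_eq_zero.mp ((pow_eq_zero_iff two_ne_zero).mp h00)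
        exact ext2 (by simp [h00']) (by simp [hb]) (by simp [hc]) (by
          simp only [Matrix.SpecialLinearGroup.coe_one, Matrix.one_apply_eq]
          linear_combination htu - h00')
      · refine ⟨u 0 0 - 1, u 1 0, Or.inr hc, ?_, ?_⟩
        · linear_combination (u 0 0) * htu - hdu
        · linear_combination (u 1 0) * htu
    · refine ⟨u 0 1, u 1 1 - 1, Or.inl hb, ?_, ?_⟩
      · linear_combination (u 0 1) * htu
      · linear_combination (u 1 1) * htu - hdu
  set w₀ := x 0 0 * v₀ + x 0 1 * v₁ with hw₀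
  set w₁ := x 1 0 * v₀ + x 1 1 * v₁ with hw₁
  -- `v` is not an eigenvector of `x`
  have hdet : v₀ * w₁ - v₁ * w₀ ≠ 0 := by
    intro hd
    obtain ⟨l, hl0, hl1⟩ : ∃ l : F, w₀ = l * v₀ ∧ w₁ = l * v₁ := by
      rcases hv with hv | hv
      · exact ⟨w₀ / v₀, by field_simp, by field_simp; linear_combination hd⟩
      · exact ⟨w₁ / v₁, by field_simp; linear_combination -hd, by field_simp⟩
    have hui : (u⁻¹ : SL(2, F)) 0 0 * v₀ + (u⁻¹ : SL(2, F)) 0 1 * v₁ = v₀ ∧
        (u⁻¹ : SL(2, F)) 1 0 * v₀ + (u⁻¹ : SL(2, F)) 1 1 * v₁ = v₁ := by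
      rw [inv00, inv01, inv10, inv11]
      constructor
      · linear_combination v₀ * hdu - u 1 1 * hf0 + u 0 1 * hf1
      · linear_combination v₁ * hdu + u 1 0 * hf0 - u 0 0 * hf1
    obtain ⟨hi0, hi1⟩ := hui
    set y := u * x * u⁻¹ * x with hy
    have hy0 : y 0 0 * v₀ + y 0 1 * v₁ = l * l * v₀ := by
      rw [hy]; simp only [mul00, mul01, mul10, mul11]
      linear_combination ((u 0 0 * x 0 0 + u 0 1 * x 1 0) * (u⁻¹ : SL(2, F)) 0 0 +
          (u 0 0 * x 0 1 + u 0 1 * x 1 1) * (u⁻¹ : SL(2, F)) 1 0) * (hw₀.symm.trans hl0) +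
        ((u 0 0 * x 0 0 + u 0 1 * x 1 0) * (u⁻¹ : SL(2, F)) 0 1 +
          (u 0 0 * x 0 1 + u 0 1 * x 1 1) * (u⁻¹ : SL(2, F)) 1 1) * (hw₁.symm.trans hl1) +
        l * (u 0 0 * x 0 0 + u 0 1 * x 1 0) * hi0 + l * (u 0 0 * x 0 1 + u 0 1 * x 1 1) * hi1 +
        l * u 0 0 * (hw₀.symm.trans hl0) + l * u 0 1 * (hw₁.symm.trans hl1) + l * l * hf0
    have hy1 : y 1 0 * v₀ + y 1 1 * v₁ = l * l * v₁ := by
      rw [hy]; simp only [mul00, mul01, mul10, mul11]
      linear_combination ((u 1 0 * x 0 0 + u 1 1 * x 1 0) * (u⁻¹ : SL(2, F)) 0 0 +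
          (u 1 0 * x 0 1 + u 1 1 * x 1 1) * (u⁻¹ : SL(2, F)) 1 0) * (hw₀.symm.trans hl0) +
        ((u 1 0 * x 0 0 + u 1 1 * x 1 0) * (u⁻¹ : SL(2, F)) 0 1 +
          (u 1 0 * x 0 1 + u 1 1 * x 1 1) * (u⁻¹ : SL(2, F)) 1 1) * (hw₁.symm.trans hl1) +
        l * (u 1 0 * x 0 0 + u 1 1 * x 1 0) * hi0 + l * (u 1 0 * x 0 1 + u 1 1 * x 1 1) * hi1 +
        l * u 1 0 * (hw₀.symm.trans hl0) + l * u 1 1 * (hw₁.symm.trans hl1) + l * l * hf1
    have hxx0 := congrArg (fun g : SL(2, F) => g 0 0) hxx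
    have hxx1 := congrArg (fun g : SL(2, F) => g 0 1) hxx
    have hxx2 := congrArg (fun g : SL(2, F) => g 1 0) hxx
    have hxx3 := congrArg (fun g : SL(2, F) => g 1 1) hxx
    simp only [mul00, mul01, mul10, mul11] at hxx0 hxx1 hxx2 hxx3
    simp at hxx0 hxx1 hxx2 hxx3
    have hll0 : (l * l + 1) * v₀ = 0 := by
      linear_combination v₀ * hxx0 + v₁ * hxx1 - (x 0 0 + l) * (hw₀.symm.trans hl0) -
        x 0 1 * (hw₁.symm.trans hl1)
    have hll1 : (l * l + 1) * v₁ = 0 := by
      linear_combination v₀ * hxx2 + v₁ * hxx3 - x 1 0 * (hw₀.symm.trans hl0) -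
        (x 1 1 + l) * (hw₁.symm.trans hl1)
    have hll : l * l = -1 := by
      rcases hv with hv | hv
      · exact eq_neg_of_add_eq_zero_left ((mul_eq_zero.mp hll0).resolve_right hv)
      · exact eq_neg_of_add_eq_zero_left ((mul_eq_zero.mp hll1).resolve_right hv)
    rw [hll] at hy0 hy1
    have hyy0 := congrArg (fun g : SL(2, F) => g 0 0) hyx
    have hyy1 := congrArg (fun g : SL(2, F) => g 0 1) hyx
    have hyy2 := congrArg (fun g : SL(2, F) => g 1 0) hyx
    have hyy3 := congrArg (fun g : SL(2, F) => g 1 1) hyx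
    simp only [mul00, mul01, mul10, mul11] at hyy0 hyy1 hyy2 hyy3
    simp at hyy0 hyy1 hyy2 hyy3
    have h20 : (2 : F) ≠ 0 := two_ne_zero_of_odd (p := 3) (by norm_num)
    rcases hv with hv | hv
    · refine mul_ne_zero h20 hv ?_
      linear_combination v₀ * hyy0 + v₁ * hyy1 - (y 0 0 - 1) * hy0 - y 0 1 * hy1
    · refine mul_ne_zero h20 hv ?_
      linear_combination v₀ * hyy2 + v₁ * hyy3 - y 1 0 * hy0 - (y 1 1 - 1) * hy1
  let Qm : Matrix (Fin 2) (Fin 2) F := !![v₀, w₀; v₁, w₁]
  have hQdet : IsUnit Qm.det := by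
    rw [Matrix.det_fin_two_of, isUnit_iff_ne_zero]
    exact fun h => hdet (by linear_combination h)
  let Q : GL (Fin 2) F := Matrix.nonsingInvUnit Qm hQdet
  have hQ : (Q : Matrix (Fin 2) (Fin 2) F) = Qm := rfl
  have hwi : (ww : SL(2, F))⁻¹ = -ww :=
    inv_eq_of_mul_eq_one_right (by rw [mul_neg, ww_mul_self, neg_neg])
  have hxQ : conjGL Q ww⁻¹ = x := by
    rw [hwi]
    refine Subtype.ext ?_
    show (Q : Matrix (Fin 2) (Fin 2) F) * _ * _ = _
    rw [Units.mul_inv_eq_iff_eq_mul, hQ, Matrix.SpecialLinearGroup.coe_neg]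
    ext i j
    fin_cases i <;> fin_cases j <;>
      simp [Qm, ww, Matrix.mul_apply, Fin.sum_univ_two, hw₀, hw₁]
    · linear_combination v₀ * hdx - x 0 0 * v₀ * hxt - x 0 1 * v₁ * hxt
    · linear_combination v₁ * hdx - x 1 0 * v₀ * hxt - x 1 1 * v₁ * hxt
  -- `u` is upper unitriangular in the basis `v, x v`
  set t := (v₀ * ((u 1 0 * w₀ + u 1 1 * w₁) - w₁) - v₁ * ((u 0 0 * w₀ + u 0 1 * w₁) - w₀)) with ht
  obtain ⟨s, hs⟩ : ∃ s : F, conjGL Q (uu s) = u := by
    -- `(u - 1) w` is a multiple of `v`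
    obtain ⟨s, hs0, hs1⟩ : ∃ s : F, u 0 0 * w₀ + u 0 1 * w₁ = s * v₀ + w₀ ∧
        u 1 0 * w₀ + u 1 1 * w₁ = s * v₁ + w₁ := by
      have key : v₀ * ((u 1 0 * w₀ + u 1 1 * w₁) - w₁) -
          v₁ * ((u 0 0 * w₀ + u 0 1 * w₁) - w₀) = 0 := by
        linear_combination w₀ * hf1 - w₁ * hf0 + (v₀ * w₁ - v₁ * w₀) * htu
      rcases hv with hv | hv
      · refine ⟨(u 0 0 * w₀ + u 0 1 * w₁ - w₀) / v₀, ?_, ?_⟩ <;> field_simp
        · ring
        · linear_combination key
      · refine ⟨(u 1 0 * w₀ + u 1 1 * w₁ - w₁) / v₁, ?_, ?_⟩ <;> field_simp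
        · linear_combination -key
        · ring
    refine ⟨s, Subtype.ext ?_⟩
    show (Q : Matrix (Fin 2) (Fin 2) F) * _ * _ = _
    rw [Units.mul_inv_eq_iff_eq_mul, hQ]
    ext i j
    fin_cases i <;> fin_cases j <;>
      simp [Qm, uu, Matrix.mul_apply, Fin.sum_univ_two]
    · linear_combination -hf0
    · linear_combination -hs0
    · linear_combination -hf1
    · linear_combination -hs1
  -- `s² = 1`
  have hs2 : s ^ 2 = 1 := by
    have h1 : (uu s * ww⁻¹ * (uu s)⁻¹ * ww⁻¹) * (uu s * ww⁻¹ * (uu s)⁻¹ * ww⁻¹) = -1 := by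
      apply conjGL_injective Q
      rw [map_mul, map_mul, map_mul, map_mul, map_inv (conjGL Q) (uu s), hxQ, hs, hyx]
      refine Subtype.ext ?_
      show ((-1 : SL(2, F)) : Matrix (Fin 2) (Fin 2) F) =
        (Q : Matrix (Fin 2) (Fin 2) F) * ((-1 : SL(2, F)) : Matrix (Fin 2) (Fin 2) F) * _
      rw [Matrix.SpecialLinearGroup.coe_neg, Matrix.SpecialLinearGroup.coe_one, mul_neg_one, neg_mul,
        Units.mul_inv]
    have h2 := tr_eq_zero_of_sq_eq_neg_one h1
    rw [tr_def] at h2
    rw [hwi, uu_inv] at h2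
    simp only [Matrix.SpecialLinearGroup.coe_mul, Matrix.SpecialLinearGroup.coe_neg] at h2
    simp [uu, ww, Matrix.mul_apply, Fin.sum_univ_two] at h2
    have h3 : ((3 : ℕ) : F) = 0 := CharP.cast_eq_zero F 3
    push_cast at h3
    linear_combination -h2 + (-1 : F) * h3
  have hu' : conjGL Q (uu 1) ∈ X := by
    rcases mul_eq_zero.mp (show (s - 1) * (s + 1) = 0 by linear_combination hs2) with h | h
    · rw [← sub_eq_zero.mp h, hs]; exact hu
    · rw [show (1 : F) = -s by linear_combination h, ← uu_inv, map_inv, hs]; exact inv_mem hu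
  let ψ : SL(2, ZMod 3) →* SL(2, F) :=
    (conjGL Q).comp (Matrix.SpecialLinearGroup.map (ZMod.castHom (dvd_refl 3) F))
  have hinj : Function.Injective ψ := by
    refine (conjGL_injective Q).comp fun g h e => ?_
    exact Subtype.ext (Matrix.map_injective (RingHom.injective (ZMod.castHom (dvd_refl 3) F))
      (congrArg Subtype.val e))
  refine ⟨ψ, hinj, ?_⟩
  have huu : uu 1 ∈ X.comap ψ := by
    show conjGL Q (Matrix.SpecialLinearGroup.map (ZMod.castHom (dvd_refl 3) F) (uu 1)) ∈ X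
    convert hu' using 2
    apply ext2 <;> rw [map_entry] <;> simp [uu]
  have hww : ww ∈ X.comap ψ := by
    show conjGL Q (Matrix.SpecialLinearGroup.map (ZMod.castHom (dvd_refl 3) F) ww) ∈ X
    convert inv_mem hx using 1
    rw [← hxQ, ← map_inv, inv_inv]
    congr 1
    apply ext2 <;> rw [map_entry] <;> simp [ww]
  have hU : ∀ t, uu t ∈ X.comap ψ := fun t => by
    have := pow_mem huu t.val
    rwa [uu_pow, ZMod.natCast_val, ZMod.cast_id, mul_one] at this
  have htop := eq_top_of_uu_ll hU fun t => by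
    have := mul_mem (mul_mem hww (hU (-t))) (inv_mem hww)
    rwa [ww_conj_uu, neg_neg] at this
  rintro _ ⟨g, rfl⟩
  exact (htop ▸ mem_top g : g ∈ X.comap ψ)

set_option maxHeartbeats 800000 in
/-- A `p'`-subgroup normalized but not centralized by an element of order `p`. -/
theorem exists_SL2_three (hp2 : p ≠ 2) {u : SL(2, F)} (hu : u ^ p = 1) {r : ℕ} [hr : Fact r.Prime]
    (hrp : r ≠ p) {R₀ X : Subgroup SL(2, F)} [Finite R₀] (hR₀ : IsPGroup r R₀)
    (hn₀ : ∀ g ∈ R₀, u * g * u⁻¹ ∈ R₀) (hne₀ : ∃ g ∈ R₀, u * g * u⁻¹ ≠ g)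
    (hR₀X : R₀ ≤ X) (huX : u ∈ X) :
    p = 3 ∧ ∃ ψ : SL(2, ZMod 3) →* SL(2, F), Function.Injective ψ ∧ ψ.range ≤ X := by
  have h2 := two_ne_zero_of_odd (F := F) hp2
  have hu1 : u ≠ 1 := by rintro rfl; obtain ⟨g, -, hg⟩ := hne₀; simp at hg
  have hnc₀ : ¬ R₀ ≤ center SL(2, F) := by
    intro h
    obtain ⟨g, hg, hne⟩ := hne₀
    exact hne (by rw [mem_center_iff.mp (h hg) u, mul_inv_cancel_right])
  -- a minimal invariant non-central subgroup
  obtain ⟨R, hR⟩ := ((Set.finite_range fun S : Subgroup R₀ => S.map R₀.subtype).subset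
      (t := {R : Subgroup SL(2, F) | R ≤ R₀ ∧ (∀ g ∈ R, u * g * u⁻¹ ∈ R) ∧ ¬ R ≤ center SL(2, F)})
      fun R hR => ⟨R.subgroupOf R₀, map_subgroupOf_eq_of_le hR.1⟩).exists_minimal
    ⟨R₀, le_rfl, hn₀, hnc₀⟩
  obtain ⟨hRR₀, hn, hnc⟩ := hR.1
  have : Finite R := Finite.of_injective _ (inclusion_injective hRR₀)
  have hRr : IsPGroup r R := hR₀.to_le hRR₀
  have hco : ∀ g ∈ R, (orderOf g).Coprime p := by
    intro g hg
    obtain ⟨k, hk⟩ := hRr ⟨g, hg⟩
    exact (Nat.Coprime.pow_left k ((Nat.coprime_primes hr.out hp.out).mpr hrp)).coprime_dvd_left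
      (orderOf_dvd_of_pow_eq_one (congrArg Subtype.val hk))
  have hsub : ∀ S : Subgroup SL(2, F), S ≤ R → (∀ g ∈ S, u * g * u⁻¹ ∈ S) → S ≠ R →
      S ≤ center SL(2, F) := by
    intro S hS hSn hne
    by_contra hnc'
    exact hne (le_antisymm hS (hR.2 ⟨hS.trans hRR₀, hSn, hnc'⟩ hS))
  have hnab : ¬ IsMulCommutative R := fun h => hnc (le_center_of_abelian hp2 hu hu1 h hco hn)
  -- the derived subgroup is central
  have hR' : ⁅R, R⁆ ≤ center SL(2, F) := by
    refine hsub _ R.commutator_le_self ?_ ?_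
    · have : (⁅R, R⁆ : Subgroup SL(2, F)).map (MulAut.conj u).toMonoidHom ≤ ⁅R, R⁆ := by
        rw [map_commutator]
        refine commutator_mono ?_ ?_ <;>
        · rintro _ ⟨g, hg, rfl⟩
          exact hn g hg
      exact fun g hg => this ⟨g, hg, rfl⟩
    · intro h
      have : Group.IsNilpotent R := hRr.isNilpotent
      have htop : commutator R = ⊤ := by
        apply map_injective R.subtype_injective
        rw [commutator_def, map_commutator, ← MonoidHom.range_eq_map, range_subtype, h]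
      have hsolv : Group.IsSolvable R := inferInstance
      have hnt : Nontrivial R := by
        rw [nontrivial_iff_ne_bot]
        rintro rfl
        exact hnc bot_le
      exact (Group.IsSolvable.commutator_lt_top_of_nontrivial R).ne htop
  -- the centre is central in `SL(2, F)`
  have hZ : ∀ g ∈ R, (∀ h ∈ R, h * g = g * h) → g ∈ center SL(2, F) := by
    intro g hg hc
    have hle : R ⊓ centralizer (R : Set SL(2, F)) ≤ center SL(2, F) := by
      refine le_center_of_abelian hp2 hu hu1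
        (PGroup.isMulCommutative_of_forall fun a ha b hb => (ha.2 b hb.1).symm)
        (fun g hg => hco g hg.1) ?_
      intro a ha
      refine ⟨hn a ha.1, fun b hb => ?_⟩
      have hb' : u⁻¹ * b * u ∈ R := by
        have hpow : ∀ n : ℕ, ∀ b ∈ R, u ^ n * b * (u ^ n)⁻¹ ∈ R := by
          intro n
          induction n with
          | zero => intro b hb; simpa using hb
          | succ n ih =>
            intro b hb
            rw [pow_succ', show u * u ^ n * b * (u * u ^ n)⁻¹ =
              u * (u ^ n * b * (u ^ n)⁻¹) * u⁻¹ by group]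
            exact hn _ (ih b hb)
        have := hpow (p - 1) b hb
        rwa [show u ^ (p - 1) = u⁻¹ from eq_inv_of_mul_eq_one_left
          (by rw [← pow_succ, Nat.sub_add_cancel hp.out.one_le, hu]), inv_inv] at this
      calc b * (u * a * u⁻¹) = u * (u⁻¹ * b * u * a) * u⁻¹ := by group
        _ = u * (a * (u⁻¹ * b * u)) * u⁻¹ := by rw [ha.2 _ hb']
        _ = u * a * u⁻¹ * b := by group
    exact hle ⟨hg, hc⟩
  -- `r = 2`
  have hr2 : r = 2 := by
    have : Nontrivial R := by
      rw [nontrivial_iff_ne_bot]; rintro rfl; exact hnc bot_le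
    have := hRr.center_nontrivial
    obtain ⟨z, hz⟩ := exists_ne (1 : center R)
    have hzc := hZ _ (z : R).2 fun h hh => congrArg Subtype.val (mem_center_iff.mp z.2 ⟨h, hh⟩)
    rcases mem_center_iff_pm.mp hzc with h | h
    · exact absurd (Subtype.ext (Subtype.ext h)) hz
    · obtain ⟨k, hk⟩ := hRr (z : R)
      have h1 : orderOf ((z : R) : SL(2, F)) = 2 := h ▸ orderOf_neg_one h2
      exact ((Nat.prime_dvd_prime_iff_eq Nat.prime_two hr.out).mp (Nat.prime_two.dvd_of_dvd_pow
        (h1 ▸ orderOf_dvd_of_pow_eq_one (congrArg Subtype.val hk)))).symm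
  -- squares
  have hsq : ∀ g ∈ R, g ∉ center SL(2, F) → g * g = -1 := by
    intro g hg hgc
    have hz : g * g ∈ center SL(2, F) := by
      refine hZ _ (mul_mem hg hg) fun h hh => ?_
      set c := ⁅g, h⁆ with hc
      have hcm : c ∈ center SL(2, F) := hR' (commutator_mem_commutator hg hh)
      have hc2 : c * c = 1 := by
        rcases mem_center_iff_pm.mp hcm with h | h <;> simp [h]
      have hgh : g * h = c * h * g := by rw [hc, commutatorElement_def]; group
      have hcc := mem_center_iff.mp hcm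
      symm
      calc g * g * h = g * (c * h * g) := by rw [mul_assoc, hgh]
        _ = c * (g * h) * g := by rw [← mul_assoc, ← mul_assoc, hcc g, mul_assoc c g h]
        _ = c * c * (h * g * g) := by rw [hgh]; group
        _ = h * (g * g) := by rw [hc2, one_mul, mul_assoc]
    rcases mem_center_iff_pm.mp hz with h | h
    · exact absurd (mem_center_iff_pm.mpr (eq_pm_of_mul_self_eq_one h2 h)) hgc
    · exact h
  have hcomm : ∀ g ∈ R, g ∉ center SL(2, F) → ∀ h ∈ R, Commute h g → h ∉ center SL(2, F) →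
      h = g ∨ h = -g := by
    intro g hg hgc h hh hc hhc
    have t1 := tr_eq_zero_of_sq_eq_neg_one (hsq g hg hgc)
    have t2 := tr_eq_zero_of_sq_eq_neg_one (hsq h hh hhc)
    rcases eq_or_eq_inv_of_tr_eq (g := g)
      (by rw [t1]; intro h4; exact mul_ne_zero h2 h2 (by linear_combination -h4)) hc
      (t2.trans t1.symm) with e | e
    · exact Or.inl e
    · exact Or.inr (e.trans (inv_eq_of_mul_eq_one_right (by rw [mul_neg, hsq g hg hgc, neg_neg])))
  have hanti : ∀ g ∈ R, ∀ h ∈ R, g * h ≠ h * g → g * h = -(h * g) := by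
    intro g hg h hh hne
    rcases mem_center_iff_pm.mp (hR' (commutator_mem_commutator hg hh)) with e | e
    · exact absurd (commutatorElement_eq_one_iff_mul_comm.mp e) hne
    · rw [show g * h = ⁅g, h⁆ * (h * g) by simp only [commutatorElement_def]; group, e, neg_one_mul]
  -- orbit of length three
  obtain ⟨x, hxR, hxc⟩ := SetLike.not_le_iff_exists.mp hnc
  set y := u * x * u⁻¹ with hy
  have hyR : y ∈ R := hn x hxR
  have hxt : tr x ^ 2 ≠ 4 := tr_sq_ne_four_of_coprime hp2 hxc (hco x hxR)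
  have hyx : ¬ Commute y x := fun h => hu1 (eq_one_of_conj_mem_cent hp2 hxt hu h)
  have hcg : ∀ {a : SL(2, F)}, a ∈ center SL(2, F) → ∀ b, Commute a b := fun ha b =>
    (mem_center_iff.mp ha b).symm
  have hyc : y ∉ center SL(2, F) := fun h => hyx (hcg h x)
  have hxy : x * y = -(y * x) := hanti x hxR y hyR fun h => hyx h.symm
  set z := u * y * u⁻¹ with hz
  have hzR : z ∈ R := hn y hyR
  clear_value y z
  have hyt : tr y ^ 2 ≠ 4 := by rw [hy, tr_conj]; exact hxt
  have hzy : ¬ Commute z y := fun h => hu1 (eq_one_of_conj_mem_cent hp2 hyt hu (by rw [← hz]; exact h))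
  have hzx : ¬ Commute z x := by
    intro h
    have hz' : z = u ^ 2 * x * (u ^ 2)⁻¹ := by rw [hz, hy, pow_two]; group
    have hu2 : u ^ 2 = 1 := eq_one_of_conj_mem_cent hp2 hxt
      (by rw [← pow_mul, mul_comm, pow_mul, hu, one_pow]) (hz' ▸ h)
    obtain ⟨j, hj⟩ := hp.out.odd_of_ne_two hp2
    exact hu1 (by rw [← hu, hj, pow_succ, pow_mul, hu2, one_pow, one_mul])
  -- `z y` commutes with `x`
  have hzy_c : Commute (z * y) x := by
    have hxz : x * z = -(z * x) := hanti x hxR z hzR fun h => hzx h.symm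
    show z * y * x = x * (z * y)
    rw [← mul_assoc, hxz, neg_mul, mul_assoc z x y, hxy, mul_neg, neg_neg, mul_assoc]
  obtain ⟨e, he, hzexy⟩ : ∃ e : SL(2, F), (e = 1 ∨ e = -1) ∧ z = e * (x * y) := by
    have hyi : y⁻¹ = -y := inv_eq_of_mul_eq_one_right (by rw [mul_neg, hsq y hyR hyc, neg_neg])
    by_cases hc : z * y ∈ center SL(2, F)
    · exfalso
      have hz1 : z = z * y * (-y) := by rw [← hyi, mul_inv_cancel_right]
      refine hzy ?_
      rw [hz1]
      exact (hcg hc y).mul_left ((Commute.refl y).neg_left)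
    · rcases hcomm x hxR hxc (z * y) (mul_mem hzR hyR) hzy_c hc with h | h
      · refine ⟨-1, Or.inr rfl, ?_⟩
        rw [← h, neg_one_mul, mul_assoc, hsq y hyR hyc, mul_neg_one, neg_neg]
      · refine ⟨1, Or.inl rfl, ?_⟩
        rw [one_mul, ← neg_neg x, ← h, neg_mul, mul_assoc, hsq y hyR hyc, mul_neg_one, neg_neg]
  have hu3 : u ^ 3 = 1 := by
    refine eq_one_of_conj_mem_cent hp2 hxt (by rw [← pow_mul, mul_comm, pow_mul, hu, one_pow]) ?_
    have hec : ∀ g : SL(2, F), e * g = g * e := by rcases he with rfl | rfl <;> simp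
    have hee : e * e = 1 := by rcases he with rfl | rfl <;> simp
    have : u ^ 3 * x * (u ^ 3)⁻¹ = x := by
      calc u ^ 3 * x * (u ^ 3)⁻¹ = u * z * u⁻¹ := by
            simp only [hz, hy, pow_succ, pow_zero, one_mul]; group
        _ = (u * e * u⁻¹) * ((u * x * u⁻¹) * (u * y * u⁻¹)) := by rw [hzexy]; group
        _ = e * (y * z) := by rw [← hy, ← hz, ← hec u, mul_inv_cancel_right]
        _ = e * e * (y * (x * y)) := by rw [hzexy, ← mul_assoc y e, ← hec y]; group
        _ = x := by rw [hee, one_mul, hxy, mul_neg, ← mul_assoc, hsq y hyR hyc, neg_one_mul, neg_neg]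
    rw [this]
  have hp3 : p = 3 := by
    have h1 : orderOf u = p := orderOf_eq_prime hu hu1
    exact (Nat.prime_dvd_prime_iff_eq hp.out Nat.prime_three).mp (h1 ▸ orderOf_dvd_of_pow_eq_one hu3)
  subst hp3
  refine ⟨rfl, exists_SL2_three_of_gens (hR₀X (hRR₀ hxR)) huX (hsq x hxR hxc) hu3 hu1 ?_⟩
  rw [← hy]
  refine hsq _ (mul_mem hyR hxR) fun h => hyx ?_
  have hy' : y = y * x * (-x) := by
    rw [mul_assoc, mul_neg, hsq x hxR hxc, neg_neg, mul_one]
  rw [hy']
  exact (hcg h x).mul_left ((Commute.refl x).neg_left)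

/-- A finite `p`-solvable non-`p`-subgroup generated by two elements of order `p` forces `p = 3`. -/
theorem exists_SL2_three_of_pSolvable (hp2 : p ≠ 2) (X : Subgroup SL(2, F)) [Finite X]
    (hs : IsPSolvable p X) {a b : X} (hgen : closure ({a, b} : Set X) = ⊤) (ha : a ^ p = 1)
    (hb : b ^ p = 1) (hnp : ¬ IsPGroup p X) :
    p = 3 ∧ ∃ ψ : SL(2, ZMod 3) →* SL(2, F), Function.Injective ψ ∧ ψ.range ≤ X := by
  have h2 := two_ne_zero_of_odd (F := F) hp2
  have hodd := hp.out.odd_of_ne_two hp2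
  have hncent : ∀ y : X, y ≠ 1 → (∃ k, y ^ p ^ k = 1) → (y : SL(2, F)) ∉ center SL(2, F) := by
    intro y hy ⟨k, hk⟩ hc
    rcases mem_center_iff_pm.mp hc with e | e
    · exact hy (Subtype.ext e)
    · have h' : (-1 : SL(2, F)) ^ p ^ k = 1 := by
        rw [← e, ← Subgroup.coe_pow, hk, Subgroup.coe_one]
      rw [(hodd.pow).neg_pow, one_pow] at h'
      exact neg_one_ne_one h2 h'
  -- `O_p(X) = 1`
  have hcore : pCore p X = ⊥ := by
    by_contra hne
    obtain ⟨w, hw, hw1⟩ := (bot_or_exists_ne_one _).resolve_left hne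
    have key : ∀ c : X, c ^ p = 1 → Commute (c : SL(2, F)) (w : SL(2, F)) := by
      intro c hc
      have hP : IsPGroup p (zpowers c : Subgroup X) := by
        rintro ⟨_, n, rfl⟩
        refine ⟨1, Subtype.ext ?_⟩
        show (c ^ n) ^ p ^ 1 = 1
        rw [pow_one, ← zpow_natCast, ← zpow_mul, mul_comm, zpow_mul, zpow_natCast, hc, one_zpow]
      have hT : IsPGroup p (pCore p X ⊔ zpowers c : Subgroup X) :=
        (PCore.isPGroup_pCore (p := p) (G := X)).to_sup_of_normal_left hP
      set T := pCore p X ⊔ zpowers c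
      have : Nontrivial T := by
        rw [nontrivial_iff_ne_bot]; exact ne_bot_of_le_ne_bot hne le_sup_left
      have := hT.center_nontrivial
      obtain ⟨z, hz⟩ := exists_ne (1 : center T)
      have hzc := hncent ((z : T) : X) (fun h => hz (Subtype.ext (Subtype.ext h))) (by
        obtain ⟨k, hk⟩ := hT (z : T)
        exact ⟨k, congrArg Subtype.val hk⟩)
      have hcomm : ∀ t : T, Commute ((t : X) : SL(2, F)) (((z : T) : X) : SL(2, F)) := fun t =>
        congrArg (fun y : T => ((y : X) : SL(2, F))) (mem_center_iff.mp z.2 t)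
      exact cent_comm hzc (hcomm ⟨c, mem_sup_right (mem_zpowers c)⟩) (hcomm ⟨w, mem_sup_left hw⟩)
    have hwc := hncent w hw1 (by
      obtain ⟨k, hk⟩ := (PCore.isPGroup_pCore (p := p) (G := X)) ⟨w, hw⟩
      exact ⟨k, congrArg Subtype.val hk⟩)
    have hab : Commute a b := Subtype.ext (cent_comm hwc (key a ha) (key b hb)).eq
    refine hnp fun y => ?_
    refine ⟨1, ?_⟩
    rw [pow_one]
    have hy : y ∈ closure ({a, b} : Set X) := hgen ▸ mem_top y
    have hcl : closure ({a, b} : Set X) = zpowers a ⊔ zpowers b := by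
      rw [zpowers_eq_closure, zpowers_eq_closure, ← Subgroup.closure_union]; rfl
    have hn : zpowers a ≤ normalizer ((zpowers b : Subgroup X) : Set X) :=
      (show zpowers a ≤ centralizer ((zpowers b : Subgroup X) : Set X) from by
        rintro _ ⟨i, rfl⟩ _ ⟨j, rfl⟩
        exact (hab.zpow_zpow i j).symm.eq).trans (centralizer_le_normalizer _)
    rw [hcl] at hy
    obtain ⟨_, ⟨m, rfl⟩, _, ⟨n, rfl⟩, rfl⟩ := (Coprime.mem_sup_iff_of_le_normalizer hn).mp hy
    rw [(hab.zpow_zpow m n).mul_pow, ← zpow_natCast, ← zpow_mul, mul_comm, zpow_mul, zpow_natCast,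
      ha, one_zpow, one_mul, ← zpow_natCast, ← zpow_mul, mul_comm, zpow_mul, zpow_natCast, hb,
      one_zpow]
  set Q := pPrimeCore p X with hQdef
  have hQco : (Nat.card Q).Coprime p := PCore.coprime_card_pPrimeCore
  -- some generator does not centralize `Q`
  obtain ⟨c, hc, hcQ⟩ : ∃ c : X, c ^ p = 1 ∧ c ∉ centralizer (Q : Set X) := by
    by_contra! hall
    have hcen : Q ≤ center X := by
      have : (⊤ : Subgroup X) ≤ centralizer (Q : Set X) := by
        rw [← hgen, closure_le]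
        rintro y (rfl | rfl)
        exacts [hall _ ha, hall _ hb]
      intro q hq
      rw [mem_center_iff]
      exact fun y => (this (mem_top y) q hq).symm
    by_cases hQtop : Q = ⊤
    · refine hnp fun y => ⟨0, ?_⟩
      have h1 : ∀ c : X, c ^ p = 1 → c = 1 := fun c hc =>
        orderOf_eq_one_iff.mp (Nat.eq_one_of_dvd_coprimes (by
          rw [← card_top (G := X), ← hQtop]; exact hQco)
          (orderOf_dvd_natCard c) (orderOf_dvd_of_pow_eq_one hc))
      have hy : y ∈ closure ({a, b} : Set X) := hgen ▸ mem_top y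
      rw [h1 a ha, h1 b hb, Set.pair_eq_singleton, closure_singleton_one, mem_bot] at hy
      rw [hy, one_pow]
    have : Nontrivial (X ⧸ Q) := QuotientGroup.nontrivial_iff.mpr hQtop
    have hD := (PCore.pCore_ne_bot_or_pPrimeCore_ne_bot (PCore.isPSolvable_quotient hs Q)).resolve_right
      (not_not.mpr PCore.pPrimeCore_quotient_self_eq_bot)
    set D := (pCore p (X ⧸ Q)).comap (QuotientGroup.mk' Q) with hDdef
    have : D.Normal := Normal.comap PCore.pCore_normal _
    have hQD : Q ≤ D := by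
      intro q hq
      rw [hDdef, mem_comap, QuotientGroup.mk'_apply, (QuotientGroup.eq_one_iff q).mpr hq]
      exact one_mem _
    set Q' := Q.subgroupOf D
    obtain ⟨k, hk⟩ := IsPGroup.iff_card.mp (PCore.isPGroup_pCore (p := p) (G := X ⧸ Q))
    have hindex : Q'.index = p ^ k := by
      rw [show Q'.index = (QuotientGroup.mk' Q).ker.relIndex D by rw [QuotientGroup.ker_mk']; rfl,
        relIndex_ker, map_comap_eq_self_of_surjective (QuotientGroup.mk'_surjective Q), hk]
    have hcard : Nat.card Q' = Nat.card Q :=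
      Nat.card_congr (subgroupOfEquivOfLe hQD).toEquiv
    obtain ⟨L, hL⟩ := exists_right_complement'_of_coprime (N := Q')
      (by rw [hindex, hcard]; exact hQco.pow_right k)
    have hcen' : ∀ q ∈ Q', ∀ g : D, g * q = q * g := fun q hq g =>
      Subtype.ext (mem_center_iff.mp (hcen hq) (g : X))
    have hLn : L.Normal := by
      rw [← normalizer_eq_top_iff, eq_top_iff, ← hL.sup_eq_top]
      refine sup_le (fun q hq => ?_) le_normalizer
      refine mem_normalizer_iff.mpr fun y => ?_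
      rw [← hcen' q hq y, mul_inv_cancel_right]
    have hLp : IsPGroup p L := IsPGroup.of_card (n := k) (by rw [← hL.symm.index_eq_card, hindex])
    have hLbot : L = ⊥ := by
      have := PCore.le_pCore (N := L) hLp
      rwa [PCore.pCore_eq_bot_of_normal D hcore, le_bot_iff] at this
    have hQtop' : Q' = ⊤ := by
      have := hL.sup_eq_top
      rwa [hLbot, sup_bot_eq] at this
    refine hD (eq_bot_iff.mpr ?_)
    rintro z hz
    obtain ⟨y, rfl⟩ := QuotientGroup.mk'_surjective Q z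
    rw [mem_bot, QuotientGroup.mk'_apply, QuotientGroup.eq_one_iff]
    exact (hQtop' ▸ mem_top (⟨y, hz⟩ : D) : (⟨y, hz⟩ : D) ∈ Q')
  -- an invariant Sylow subgroup of `Q` not centralized by `c`
  obtain ⟨r, P, hr, hPr, hPQ, hPn, hPc⟩ : ∃ (r : ℕ) (P : Subgroup X), r.Prime ∧ IsPGroup r P ∧
      P ≤ Q ∧ zpowers c ≤ normalizer (P : Set X) ∧ ¬ P ≤ centralizer ({c} : Set X) := by
    by_contra! hall
    refine hcQ fun q hq => ?_
    have hcop : (Nat.card (zpowers c)).Coprime (Nat.card Q) := by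
      rw [Nat.card_zpowers]
      exact hQco.symm.coprime_dvd_left (orderOf_dvd_of_pow_eq_one hc)
    have := Coprime.eq_of_forall_invariant_pgroup_le (A := zpowers c) (K := Q)
      (by rw [normalizer_eq_top]; exact le_top) hcop
      (Or.inl (Group.isSolvable_of_comm fun x y => mul_comm' x y))
      (S := Q ⊓ centralizer {c}) inf_le_left
      fun r P hr hP hPQ hPn => le_inf hPQ (hall r P hr hP hPQ hPn)
    exact (mem_centralizer_singleton_iff.mp ((this.ge hq).2))
  have : Fact r.Prime := ⟨hr⟩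
  have hrp : r ≠ p := by
    intro e
    subst e
    apply hPc
    rw [show P = ⊥ from card_eq_one.mp (Nat.eq_one_of_dvd_coprimes hQco.symm (by
      obtain ⟨k, hk⟩ := IsPGroup.iff_card.mp hPr
      rcases Nat.eq_zero_or_pos k with rfl | hk'
      · rw [hk]; simp
      · exfalso
        exact (Nat.Prime.coprime_iff_not_dvd hp.out).mp hQco.symm
          ((dvd_pow_self r hk'.ne').trans (hk ▸ card_dvd_of_le hPQ))) (card_dvd_of_le hPQ))]
    exact bot_le
  obtain ⟨g, hgP, hgc⟩ := SetLike.not_le_iff_exists.mp hPc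
  have hfin : Finite (P.map X.subtype : Subgroup SL(2, F)) :=
    Finite.of_equiv _ (equivMapOfInjective P X.subtype X.subtype_injective).toEquiv
  refine exists_SL2_three (p := p) hp2 (u := (c : SL(2, F))) ?_ hrp (R₀ := P.map X.subtype)
    (hPr.map _) ?_ ⟨g, mem_map_of_mem _ hgP, fun e => ?_⟩ (map_subtype_le _) c.2
  · rw [← Subgroup.coe_pow, hc, Subgroup.coe_one]
  · rintro _ ⟨y, hy, rfl⟩
    exact ⟨c * y * c⁻¹, (mem_normalizer_iff.mp (hPn (mem_zpowers c)) y).mp hy, by simp⟩
  · refine hgc (mem_centralizer_singleton_iff.mpr (Subtype.ext ?_))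
    have e' := mul_inv_eq_iff_eq_mul.mp e
    exact e'.symm

end Cfsg.Agent.Quadratic
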