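import Cfsg.Prelude.Def_PLocal
import Cfsg.Agent.Lib.Quadratic.Pair
import Cfsg.Agent.Lib.Quadratic.SL2Sub
import Cfsg.Agent.Lib.Involution.BaerSuzuki
import Cfsg.Agent.Lib.PCore.Basic
import Cfsg.Agent.Lib.PGroup.Frattini
import Cfsg.Agent.Lib.Offender.Replacement

/-!
# Quadratic action: consequences of failure of `p`-stability (`p` odd)

* `not_isMulCommutative_sylow_two`: two quadratic elements, image not a `p`-group ⇒ non-abelian Sylow 2
* `SL2three_section`: the same in a `p`-solvable group ⇒ `p = 3` and an `SL(2,3)` section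
* `exists_pair_of_not_mem`: Baer–Suzuki
* `isPStableOn_of_*`, `isActionPStable_of_pSolvable`, `isActionPStable_of_abelian_sylow_two`
-/

set_option autoImplicit false

namespace Cfsg.Agent.Quadratic

open scoped MatrixGroups commutatorElement
open Subgroup

universe u

variable {G : Type u} [Group G] {p : ℕ} [hp : Fact p.Prime]

theorem quadratic_conj_of_mem {V : Subgroup G} {g a : G} (hg : g ∈ normalizer (V : Set G))
    (h : ⁅⁅V, zpowers a⁆, zpowers a⁆ = ⊥) :
    ⁅⁅V, zpowers (g * a * g⁻¹)⁆, zpowers (g * a * g⁻¹)⁆ = ⊥ := by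
  have hV : V.map (MulAut.conj g).toMonoidHom = V := by
    refine le_antisymm ?_ fun v hv => ?_
    · rintro _ ⟨v, hv, rfl⟩
      exact (mem_normalizer_iff.mp hg v).mp hv
    · exact ⟨g⁻¹ * v * g, (mem_normalizer_iff''.mp hg v).mp hv, by
        show g * (g⁻¹ * v * g) * g⁻¹ = v
        group⟩
  have := congrArg (Subgroup.map (MulAut.conj g).toMonoidHom) h
  rw [Subgroup.map_bot, map_commutator, map_commutator, MonoidHom.map_zpowers, hV] at this
  exact this

/-- A homomorphism and a subgroup of its image give a section. -/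
theorem exists_section {H : Subgroup G} {M N : Type*} [Group M] [Group N] (φ : H →* M)
    (ψ : N →* M) (hψ : Function.Injective ψ) (hle : ψ.range ≤ φ.range) :
    ∃ (K L : Subgroup G) (_ : (L.subgroupOf K).Normal), K ≤ H ∧
      Nonempty ((K ⧸ L.subgroupOf K) ≃* N) := by
  set K₀ := ψ.range.comap φ with hK₀
  set K := K₀.map H.subtype with hK
  set L := φ.ker.map H.subtype with hL
  have hKH : K ≤ H := map_subtype_le _
  have hmem : ∀ k : K, φ ⟨k, hKH k.2⟩ ∈ ψ.range := by
    intro k
    obtain ⟨y, hy, hyk⟩ := k.2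
    rwa [show (⟨k, hKH k.2⟩ : H) = y from Subtype.ext hyk.symm]
  let f : K →* N := (MonoidHom.ofInjective hψ).symm.toMonoidHom.comp
    ((φ.comp (inclusion hKH)).codRestrict ψ.range hmem)
  have hsur : Function.Surjective f := by
    intro n
    obtain ⟨h, hh⟩ := hle ⟨n, rfl⟩
    refine ⟨⟨h, ⟨h, show φ h ∈ ψ.range from hh ▸ ⟨n, rfl⟩, rfl⟩⟩, ?_⟩
    show (MonoidHom.ofInjective hψ).symm _ = n
    rw [MulEquiv.symm_apply_eq]
    exact Subtype.ext hh
  have hker : f.ker = L.subgroupOf K := by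
    ext k
    rw [MonoidHom.mem_ker, mem_subgroupOf, hL]
    constructor
    · intro e
      refine ⟨⟨k, hKH k.2⟩, ?_, rfl⟩
      have e' := congrArg (MonoidHom.ofInjective hψ) e
      simp only [f, MonoidHom.comp_apply, MulEquiv.coe_toMonoidHom, MulEquiv.apply_symm_apply,
        map_one] at e'
      exact congrArg Subtype.val e'
    · rintro ⟨y, hy, hyk⟩
      show (MonoidHom.ofInjective hψ).symm _ = 1
      rw [MulEquiv.map_eq_one_iff]
      refine Subtype.ext ?_
      show φ ⟨k, hKH k.2⟩ = 1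
      rw [show (⟨k, hKH k.2⟩ : H) = y from Subtype.ext hyk.symm]
      exact hy
  have hn : (L.subgroupOf K).Normal := hker ▸ f.normal_ker
  exact ⟨K, L, hn, hKH, ⟨(QuotientGroup.quotientMulEquivOfEq hker.symm).trans
    (QuotientGroup.quotientKerEquivOfSurjective f hsur)⟩⟩

section Pair

variable [Finite G] {V H : Subgroup G} (hV : IsElementaryAbelian p V)
  (hHV : H ≤ normalizer (V : Set G)) {a b : G} (hab : H = closure {a, b})
  (ha : ⁅⁅V, zpowers a⁆, zpowers a⁆ = ⊥) (hb : ⁅⁅V, zpowers b⁆, zpowers b⁆ = ⊥)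
  (hnp : ∃ h ∈ H, ∀ n : ℕ, h ^ p ^ n ∉ centralizer (V : Set G))

include hV hHV hab ha hb hnp

theorem not_isMulCommutative_sylow_two (hp2 : p ≠ 2) (T : Sylow 2 H) : ¬ IsMulCommutative T := by
  obtain ⟨φ, hφ, hgen, -⟩ := exists_SL2_of_pair V H hV hHV hab ha hb hnp
  have : Finite φ.range := Finite.of_surjective _ φ.rangeRestrict_surjective
  intro hT
  have : Fact (Nat.Prime 2) := ⟨Nat.prime_two⟩
  refine hφ (isPGroup_of_abelian_sylow_two φ.range hp2 hgen
    (T.mapSurjective φ.rangeRestrict_surjective) ?_)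
  refine PGroup.isMulCommutative_of_forall ?_
  rintro _ ⟨x, hx, rfl⟩ _ ⟨y, hy, rfl⟩
  rw [← map_mul, ← map_mul, PGroup.mul_comm_of_isMulCommutative hT hx hy]

theorem SL2three_section (hp2 : p ≠ 2) (hs : IsPSolvable p H) :
    p = 3 ∧ ∃ (K L : Subgroup G) (_ : (L.subgroupOf K).Normal), K ≤ H ∧
      Nonempty ((K ⧸ L.subgroupOf K) ≃* Matrix.SpecialLinearGroup (Fin 2) (ZMod 3)) := by
  obtain ⟨φ, hφ, -, a', b', hgen, ha', hb'⟩ := exists_SL2_of_pair V H hV hHV hab ha hb hnp
  have : Finite φ.range := Finite.of_surjective _ φ.rangeRestrict_surjective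
  obtain ⟨h3, ψ, hψ, hle⟩ := exists_SL2_three_of_pSolvable hp2 φ.range
    (PCore.isPSolvable_of_surjective φ.rangeRestrict φ.rangeRestrict_surjective hs) hgen ha' hb' hφ
  exact ⟨h3, exists_section φ ψ hψ hle⟩

end Pair

/-- Baer–Suzuki: outside `O_p` some conjugate pair generates a non-`p`-group. -/
theorem exists_pair_of_not_mem [Finite G] {a : G} (ha : a ∉ pCore p G) :
    ∃ g : G, ¬ IsPGroup p (closure ({a, g * a * g⁻¹} : Set G)) := by
  by_contra! h
  exact ha (PCore.le_pCore (Involution.baer_suzuki a h)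
    (subset_normalClosure (Set.mem_singleton a)))

section Faithful

variable [Finite G] {V H : Subgroup G} (hV : IsElementaryAbelian p V)
  (hHV : H ≤ normalizer (V : Set G)) (hf : H ⊓ centralizer (V : Set G) = ⊥)

omit [Finite G] hp in
include hf in
theorem exists_not_pow_mem_of_not_isPGroup {K : Subgroup G} (hKH : K ≤ H) (hK : ¬ IsPGroup p K) :
    ∃ h ∈ K, ∀ n : ℕ, h ^ p ^ n ∉ centralizer (V : Set G) := by
  by_contra! hall
  refine hK fun k => ?_
  obtain ⟨n, hn⟩ := hall k k.2
  refine ⟨n, Subtype.ext ?_⟩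
  rw [Subgroup.coe_pow, Subgroup.coe_one, ← mem_bot, ← hf]
  exact ⟨pow_mem (hKH k.2) _, hn⟩

include hV hHV hf in
theorem exists_quadratic_pair {a : G} (haH : a ∈ H) (hq : ⁅⁅V, zpowers a⁆, zpowers a⁆ = ⊥)
    (hna : a ∉ (pCore p H).map H.subtype) :
    ∃ b : G, b ∈ H ∧ ⁅⁅V, zpowers b⁆, zpowers b⁆ = ⊥ ∧
      ∃ h ∈ closure ({a, b} : Set G), ∀ n : ℕ, h ^ p ^ n ∉ centralizer (V : Set G) := by
  have ha' : (⟨a, haH⟩ : H) ∉ pCore p H := fun h => hna ⟨_, h, rfl⟩
  obtain ⟨g, hg⟩ := exists_pair_of_not_mem ha'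
  refine ⟨(g : G) * a * (g : G)⁻¹, mul_mem (mul_mem g.2 haH) (inv_mem g.2),
    quadratic_conj_of_mem (hHV g.2) hq, exists_not_pow_mem_of_not_isPGroup hf ?_ fun hK => hg ?_⟩
  · rw [closure_le]
    rintro x (rfl | rfl)
    exacts [haH, mul_mem (mul_mem g.2 haH) (inv_mem g.2)]
  · refine IsPGroup.of_injective (hK : IsPGroup p _)
      ((H.subtype.comp (closure ({⟨a, haH⟩, g * ⟨a, haH⟩ * g⁻¹} : Set H)).subtype).codRestrict
        (closure ({a, (g : G) * a * (g : G)⁻¹} : Set G)) fun x => ?_) fun x y e => ?_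
    · have := mem_map_of_mem H.subtype x.2
      rw [MonoidHom.map_closure, Set.image_pair] at this
      exact this
    · exact Subtype.ext (Subtype.ext (congrArg Subtype.val e :))

end Faithful

/-! ### `p`-stability -/

theorem isMulCommutative_sylow_two_of_forall [Finite G] (hab : ∀ T : Sylow 2 G, IsMulCommutative T)
    (H : Subgroup G) (T : Sylow 2 H) : IsMulCommutative T := by
  obtain ⟨S, hS⟩ := (T.2.map H.subtype).exists_le_sylow
  refine PGroup.isMulCommutative_of_forall fun x hx y hy => Subtype.ext ?_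
  exact PGroup.mul_comm_of_isMulCommutative (hab S) (hS ⟨x, hx, rfl⟩) (hS ⟨y, hy, rfl⟩)

theorem isPStableOn_of_no_pair [Finite G] (V : Subgroup G) [V.Normal]
    (h : ∀ a b : G, ⁅⁅V, zpowers a⁆, zpowers a⁆ = ⊥ → ⁅⁅V, zpowers b⁆, zpowers b⁆ = ⊥ →
      ¬ ∃ x ∈ closure ({a, b} : Set G), ∀ n : ℕ, x ^ p ^ n ∉ centralizer (V : Set G)) :
    IsPStableOn p V := by
  intro a ha
  by_contra hna
  obtain ⟨g, hg⟩ := exists_pair_of_not_mem hna
  obtain ⟨g, rfl⟩ := QuotientGroup.mk'_surjective _ g
  refine h a (g * a * g⁻¹) ha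
    (quadratic_conj_of_mem (by rw [normalizer_eq_top]; exact mem_top g) ha) ?_
  by_contra! hall
  refine hg ?_
  rintro ⟨y, hy⟩
  have hy' : y ∈ (closure ({a, g * a * g⁻¹} : Set G)).map
      (QuotientGroup.mk' (centralizer (V : Set G))) := by
    rw [MonoidHom.map_closure, Set.image_pair]
    simpa using hy
  obtain ⟨x, hx, rfl⟩ := hy'
  obtain ⟨n, hn⟩ := hall x hx
  refine ⟨n, Subtype.ext ?_⟩
  rw [Subgroup.coe_pow, Subgroup.coe_one, ← map_pow]
  exact (QuotientGroup.eq_one_iff _).mpr hn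

theorem isPStableOn_of_pSolvable [Finite G] (hp5 : 5 ≤ p) (hs : IsPSolvable p G) (V : Subgroup G)
    [V.Normal] (hV : IsElementaryAbelian p V) : IsPStableOn p V := by
  refine isPStableOn_of_no_pair V fun a b ha hb hnp => ?_
  have := SL2three_section hV (by rw [normalizer_eq_top]; exact le_top) rfl ha hb hnp (by omega)
    (PCore.isPSolvable_subgroup hs _)
  omega

theorem isPStableOn_of_abelian_sylow_two [Finite G] (hp2 : p ≠ 2)
    (hab : ∀ T : Sylow 2 G, IsMulCommutative T) (V : Subgroup G) [V.Normal]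
    (hV : IsElementaryAbelian p V) : IsPStableOn p V := by
  refine isPStableOn_of_no_pair V fun a b ha hb hnp => ?_
  exact not_isMulCommutative_sylow_two hV (by rw [normalizer_eq_top]; exact le_top) rfl ha hb hnp hp2
    default (isMulCommutative_sylow_two_of_forall hab _ default)

omit hp in
/-- Stability on a section follows from stability on its image in the quotient. -/
theorem isPStableOnSection_of_quotient [Finite G] [Fact p.Prime] (K N : Subgroup G) [K.Normal]
    [N.Normal]
    (h : ∀ [(K.map (QuotientGroup.mk' N)).Normal], IsPStableOn p (K.map (QuotientGroup.mk' N))) :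
    IsPStableOnSection p K N := by
  have hKn : (K.map (QuotientGroup.mk' N)).Normal :=
    Normal.map inferInstance _ (QuotientGroup.mk'_surjective N)
  intro a ha
  have hq : ⁅⁅K.map (QuotientGroup.mk' N), zpowers (QuotientGroup.mk' N a)⁆,
      zpowers (QuotientGroup.mk' N a)⁆ = ⊥ := by
    rw [← MonoidHom.map_zpowers, ← map_commutator, ← map_commutator, Subgroup.map_eq_bot_iff,
      QuotientGroup.ker_mk']
    exact ha
  have hD := h _ hq
  set C := centralizer ((K.map (QuotientGroup.mk' N) : Subgroup (G ⧸ N)) : Set (G ⧸ N)) with hC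
  set f := (QuotientGroup.mk' C).comp (QuotientGroup.mk' N) with hf
  have hfs : Function.Surjective f :=
    (QuotientGroup.mk'_surjective C).comp (QuotientGroup.mk'_surjective N)
  have hker : f.ker = sectionKernel K N := by
    rw [hf, ← MonoidHom.comap_ker, QuotientGroup.ker_mk']; rfl
  refine ⟨(pCore p _).comap f, Normal.comap PCore.pCore_normal _, ?_, ?_, hD⟩
  · rw [← hker]
    exact fun x hx => by rw [mem_comap, MonoidHom.mem_ker.mp hx]; exact one_mem _
  · obtain ⟨k, hk⟩ := IsPGroup.iff_card.mp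
      (PCore.isPGroup_pCore (p := p) (G := (G ⧸ N) ⧸ C))
    exact ⟨k, by rw [← hker, relIndex_ker, map_comap_eq_self_of_surjective hfs, hk]⟩

theorem isActionPStable_of_forall [Finite G]
    (h1 : ∀ (V : Subgroup G) [V.Normal], IsElementaryAbelian p V → IsPStableOn p V)
    (h2 : ∀ (N : Subgroup G) [N.Normal] (V : Subgroup (G ⧸ N)) [V.Normal],
      IsElementaryAbelian p V → IsPStableOn p V)
    (h3 : ∀ (N : Subgroup G) (V : Subgroup N) [V.Normal], IsElementaryAbelian p V → IsPStableOn p V) :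
    IsActionPStable p G := by
  refine ⟨h1, ?_, fun S V _ hle => h3 _ V ?_⟩
  · set R := pCore p G
    set Φ := (frattini ↥R).map R.subtype
    have : Φ.Normal := by
      have : (frattini ↥R).Characteristic := frattini_characteristic
      exact ConjAct.normal_of_characteristic_of_normal
    have hRp : IsPGroup p R := PCore.isPGroup_pCore
    refine isPStableOnSection_of_quotient R Φ ?_
    intro _
    refine h2 Φ _ (PGroup.isElementaryAbelian_of_forall ?_ ?_)
    · rintro _ ⟨x, hx, rfl⟩ _ ⟨y, hy, rfl⟩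
      have hm : ⁅(⟨x, hx⟩ : R), ⟨y, hy⟩⁆ ∈ frattini ↥R :=
        PGroup.commutator_le_frattini hRp
          (_root_.commutator_def (G := R) ▸ commutator_mem_commutator (mem_top _) (mem_top _))
      have hm' : ⁅x, y⁆ ∈ Φ := ⟨_, hm, rfl⟩
      rw [← commutatorElement_eq_one_iff_mul_comm, ← map_commutatorElement]
      exact (QuotientGroup.eq_one_iff _).mpr hm'
    · rintro _ ⟨x, hx, rfl⟩
      rw [← map_pow]
      exact (QuotientGroup.eq_one_iff _).mpr ⟨_, PGroup.pow_mem_frattini hRp ⟨x, hx⟩, rfl⟩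
  · have hE : IsElementaryAbelian p ((omegaCenterThompson p ↥(S : Subgroup G)).map (S : Subgroup G).subtype) :=
      PGroup.isElementaryAbelian_map (PGroup.isElementaryAbelian_omegaOne
        (PGroup.isMulCommutative_of_forall fun _ ha _ hb => (ha.2 _ hb.1).symm)) _
    exact (PGroup.isElementaryAbelian_map_iff (Subgroup.subtype_injective _)).mp
      (PGroup.isElementaryAbelian_mono hE hle)

theorem isActionPStable_of_pSolvable [Finite G] (hp5 : 5 ≤ p) (hs : IsPSolvable p G) :
    IsActionPStable p G :=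
  isActionPStable_of_forall (fun V _ hV => isPStableOn_of_pSolvable hp5 hs V hV)
    (fun N _ V _ hV => isPStableOn_of_pSolvable hp5 (PCore.isPSolvable_quotient hs N) V hV)
    (fun N V _ hV => isPStableOn_of_pSolvable hp5 (PCore.isPSolvable_subgroup hs N) V hV)

theorem isMulCommutative_sylow_two_quotient [Finite G] (hab : ∀ T : Sylow 2 G, IsMulCommutative T)
    (N : Subgroup G) [N.Normal] (T : Sylow 2 (G ⧸ N)) : IsMulCommutative T := by
  have : Fact (Nat.Prime 2) := ⟨Nat.prime_two⟩
  obtain ⟨S, rfl⟩ := Sylow.mapSurjective_surjective (QuotientGroup.mk'_surjective N) 2 T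
  rw [Sylow.coe_mapSurjective]
  refine PGroup.isMulCommutative_of_forall ?_
  rintro _ ⟨x, hx, rfl⟩ _ ⟨y, hy, rfl⟩
  rw [← map_mul, ← map_mul, PGroup.mul_comm_of_isMulCommutative (hab S) hx hy]

theorem isActionPStable_of_abelian_sylow_two [Finite G] (hp2 : p ≠ 2)
    (hab : ∀ T : Sylow 2 G, IsMulCommutative T) : IsActionPStable p G :=
  isActionPStable_of_forall (fun V _ hV => isPStableOn_of_abelian_sylow_two hp2 hab V hV)
    (fun N _ V _ hV => isPStableOn_of_abelian_sylow_two hp2 (isMulCommutative_sylow_two_quotient hab N) V hV)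
    (fun N V _ hV => isPStableOn_of_abelian_sylow_two hp2 (isMulCommutative_sylow_two_of_forall hab N) V hV)

end Cfsg.Agent.Quadratic
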