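import Cfsg.Agent.Lib.Quadratic.Stability
import Cfsg.Agent.Lib.PSL2.TwoSylow
import Mathlib.FieldTheory.IntermediateField.Adjoin.Algebra

/-!
# Quadratic pairs give sections `SL(2, p)`

* `exists_SL2_of_pgen`: a finite subgroup of `SL(2, K)`, `K` algebraic over `ZMod p`, generated by
  elements of order `p` and not a `p`-group contains a copy of `SL(2, p)` (`p` odd);
* `exists_SL2_section`: two quadratic elements generating modulo `C(V)` a non-`p`-group give a
  section `SL(2, p)`;
* `exists_SL2_section_of_faithful`: the same from one quadratic element outside `O_p`, faithful action.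
-/

set_option autoImplicit false

namespace Cfsg.Agent.Quadratic

open scoped MatrixGroups
open Subgroup

theorem exists_SL2_of_pgen {K : Type*} [Field K] {p : ℕ} [Fact p.Prime] [Algebra (ZMod p) K]
    [Algebra.IsAlgebraic (ZMod p) K] [CharP K p] (hp2 : p ≠ 2) (X : Subgroup SL(2, K)) [Finite X]
    (hgen : ∀ x ∈ X, x ∈ closure {y : SL(2, K) | y ∈ X ∧ y ^ p = 1}) (hX : ¬ IsPGroup p X) :
    ∃ ψ : SL(2, ZMod p) →* SL(2, K), Function.Injective ψ ∧ ψ.range ≤ X := by
  classical
  set S : Set K := Set.range fun z : X × Fin 2 × Fin 2 => (z.1 : SL(2, K)) z.2.1 z.2.2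
  set E := IntermediateField.adjoin (ZMod p) S
  have : Finite S := (Set.finite_range _).to_subtype
  have : FiniteDimensional (ZMod p) E :=
    IntermediateField.finiteDimensional_adjoin fun x _ => Algebra.IsIntegral.isIntegral x
  have : Finite E := Module.finite_of_finite (ZMod p)
  let _ : Fintype E := Fintype.ofFinite _
  have : CharP E p := charP_of_injective_algebraMap (algebraMap (ZMod p) E).injective p
  set f : SL(2, E) →* SL(2, K) :=
    Matrix.SpecialLinearGroup.map (algebraMap E K)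
  have hf : Function.Injective f := fun g h e => PSL2.ext2
    ((algebraMap E K).injective (congrArg (fun m : SL(2, K) => m 0 0) e))
    ((algebraMap E K).injective (congrArg (fun m : SL(2, K) => m 0 1) e))
    ((algebraMap E K).injective (congrArg (fun m : SL(2, K) => m 1 0) e))
    ((algebraMap E K).injective (congrArg (fun m : SL(2, K) => m 1 1) e))
  have hmem : ∀ x ∈ X, x ∈ f.range := by
    intro x hx
    have he : ∀ i j, x i j ∈ E := fun i j =>
      IntermediateField.subset_adjoin _ _ ⟨(⟨x, hx⟩, i, j), rfl⟩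
    refine ⟨⟨!![⟨_, he 0 0⟩, ⟨_, he 0 1⟩; ⟨_, he 1 0⟩, ⟨_, he 1 1⟩], ?_⟩,
      PSL2.ext2 rfl rfl rfl rfl⟩
    rw [Matrix.det_fin_two_of]
    exact Subtype.ext (PSL2.det_eq x)
  set X' := X.comap f
  have hmap : X'.map f = X := map_comap_eq_self fun x hx => hmem x hx
  have hS : 1 < Nat.card (Sylow p X') := by
    by_contra hle
    have : Subsingleton (Sylow p X') := Finite.card_le_one_iff_subsingleton.1 (by omega)
    obtain ⟨P⟩ : Nonempty (Sylow p X') := inferInstance
    refine hX ?_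
    rw [← hmap]
    refine IsPGroup.map ?_ f
    refine ((P.isPGroup'.map X'.subtype).to_le ?_)
    intro x hx
    have hcl : f x ∈ closure {y : SL(2, K) | y ∈ X ∧ y ^ p = 1} := hgen _ hx
    have hsub : closure {y : SL(2, K) | y ∈ X ∧ y ^ p = 1} ≤
        ((P : Subgroup X').map X'.subtype).map f := by
      rw [closure_le]
      rintro y ⟨hy, hyp⟩
      obtain ⟨z, rfl⟩ := hmem y hy
      have hz : (⟨z, hy⟩ : X') ^ p = 1 := Subtype.ext (hf (by simpa using hyp))
      have hQ : IsPGroup p (zpowers (⟨z, hy⟩ : X')) := by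
        rintro ⟨w, k, rfl⟩
        exact ⟨1, Subtype.ext (by
          rw [pow_one, Subgroup.coe_pow, ← zpow_natCast, ← zpow_mul, mul_comm, zpow_mul,
            zpow_natCast, hz, one_zpow]; rfl)⟩
      obtain ⟨Q, hQle⟩ := hQ.exists_le_sylow
      rw [Subsingleton.elim Q P] at hQle
      exact mem_map_of_mem f (mem_map_of_mem X'.subtype (hQle (mem_zpowers _)))
    obtain ⟨z, hz, e⟩ := hsub hcl
    rwa [← hf e]
  obtain ⟨Y, hY, ⟨e⟩⟩ := PSL2.exists_subgroup_mulEquiv hp2 X' hS
  refine ⟨f.comp (Y.subtype.comp e.symm.toMonoidHom),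
    hf.comp (Y.subtype_injective.comp e.symm.injective), ?_⟩
  rintro _ ⟨x, rfl⟩
  exact hY (e.symm x).2

section Pair

variable {G : Type*} [Group G] [Finite G] {p : ℕ} [hp : Fact p.Prime] {V H : Subgroup G}
  (hp2 : p ≠ 2) (hV : IsElementaryAbelian p V) (hHV : H ≤ normalizer (V : Set G))

include hp2 hV hHV

theorem exists_SL2_section {a b : G} (hab : H = closure {a, b})
    (ha : ⁅⁅V, zpowers a⁆, zpowers a⁆ = ⊥) (hb : ⁅⁅V, zpowers b⁆, zpowers b⁆ = ⊥)
    (hnp : ∃ h ∈ H, ∀ n : ℕ, h ^ p ^ n ∉ centralizer (V : Set G)) :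
    ∃ (K L : Subgroup G) (_ : (L.subgroupOf K).Normal), K ≤ H ∧
      Nonempty ((K ⧸ L.subgroupOf K) ≃* SL(2, ZMod p)) := by
  obtain ⟨φ, hφ, hgen, -⟩ := exists_SL2_of_pair V H hV hHV hab ha hb hnp
  have : Finite φ.range := Finite.of_surjective _ φ.rangeRestrict_surjective
  obtain ⟨ψ, hψ, hle⟩ := exists_SL2_of_pgen hp2 φ.range hgen hφ
  exact exists_section φ ψ hψ hle

theorem exists_SL2_section_of_faithful (hf : H ⊓ centralizer (V : Set G) = ⊥) {a : G} (haH : a ∈ H)
    (hq : ⁅⁅V, zpowers a⁆, zpowers a⁆ = ⊥) (hna : a ∉ (pCore p H).map H.subtype) :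
    ∃ (K L : Subgroup G) (_ : (L.subgroupOf K).Normal), K ≤ H ∧
      Nonempty ((K ⧸ L.subgroupOf K) ≃* SL(2, ZMod p)) := by
  obtain ⟨b, hbH, hqb, hnp⟩ := exists_quadratic_pair hV hHV hf haH hq hna
  have hle : closure ({a, b} : Set G) ≤ H := by
    rw [closure_le]
    rintro x (rfl | rfl) <;> assumption
  obtain ⟨K, L, hL, hK, hiso⟩ := exists_SL2_section hp2 hV (hle.trans hHV) rfl hq hqb hnp
  exact ⟨K, L, hL, hK.trans hle, hiso⟩

end Pair

end Cfsg.Agent.Quadratic
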