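import Cfsg.Prelude.Def_LocalEven
import Cfsg.Agent.Lib.Quadratic.Dickson
import Cfsg.Agent.Lib.Quadratic.Stability
import Cfsg.Agent.Lib.Coprime.Commutator
import Cfsg.Agent.Lib.ConjFun.Basic

/-!
# `p`-stability on every normal `p`-subgroup when no section is isomorphic to `SL(2, p)` (`p` odd)
-/

set_option autoImplicit false

namespace Cfsg.Agent.Quadratic

open scoped MatrixGroups commutatorElement
open Subgroup

universe u

variable {G : Type u} [Group G] [Finite G] {p : ℕ} [hp : Fact p.Prime]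

/-- Some power `x ^ p ^ n` has order prime to `p`. -/
theorem exists_coprime_pow (x : G) : ∃ k : ℕ, (orderOf (x ^ p ^ k)).Coprime p := by
  obtain ⟨k, m, hm, hk⟩ := Nat.exists_eq_pow_mul_and_not_dvd (orderOf_pos x).ne' p hp.out.ne_one
  refine ⟨k, Nat.Coprime.coprime_dvd_left (k := m) ?_ ?_⟩
  · refine orderOf_dvd_of_pow_eq_one ?_
    rw [← pow_mul, ← hk, pow_orderOf_eq_one]
  · exact ((hp.out.coprime_iff_not_dvd).2 hm).symm

/-- An element a power of which centralises `V / Φ(V)` has a `p`-power power centralising `V`. -/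
theorem exists_pow_mem_centralizer_of_frattini (V : Subgroup G) [V.Normal] (hV : IsPGroup p V)
    [((frattini ↥V).map V.subtype).Normal] {x : G} {n : ℕ}
    (hn : QuotientGroup.mk' ((frattini ↥V).map V.subtype) (x ^ p ^ n) ∈
      centralizer ((V.map (QuotientGroup.mk' ((frattini ↥V).map V.subtype)) : Subgroup _) : Set _)) :
    ∃ m : ℕ, x ^ p ^ m ∈ centralizer (V : Set G) := by
  obtain ⟨k, hk⟩ := exists_coprime_pow (p := p) (x ^ p ^ n)
  refine ⟨n + k, ?_⟩
  rw [pow_add, pow_mul]
  set z := (x ^ p ^ n) ^ p ^ k with hz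
  obtain ⟨j, hj⟩ := IsPGroup.iff_card.mp (hV.to_subgroup (frattini ↥V))
  refine Coprime.le_centralizer_of_frattini (A := zpowers z)
    (by rw [normalizer_eq_top]; exact le_top) ?_ ?_ (mem_zpowers z)
  · rw [Nat.card_zpowers, hj]
    exact hk.pow_right j
  · intro a ha r hr
    have hle : zpowers z ≤ (centralizer ((V.map (QuotientGroup.mk' ((frattini ↥V).map V.subtype)) :
        Subgroup _) : Set _)).comap (QuotientGroup.mk' ((frattini ↥V).map V.subtype)) := by
      rw [zpowers_le, mem_comap, hz, map_pow]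
      exact pow_mem hn _
    have h := mem_centralizer_iff.1 (mem_comap.1 (hle ha)) _
      (mem_map_of_mem (QuotientGroup.mk' ((frattini ↥V).map V.subtype)) hr)
    refine (QuotientGroup.eq_one_iff _).mp ?_
    show QuotientGroup.mk' ((frattini ↥V).map V.subtype) (a * r * a⁻¹ * r⁻¹) = 1
    simp only [map_mul, map_inv]
    rw [← h]
    group

/-- With no section `SL(2, p)`, `p` odd, the group is `p`-stable on each normal `p`-subgroup. -/
theorem isPStableOn_of_not_involves_sl2 (hp2 : p ≠ 2)
    (hfree : ¬ Cfsg.Involves SL(2, ZMod p) G) (V : Subgroup G) [V.Normal] (hV : IsPGroup p V) :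
    IsPStableOn p V := by
  refine isPStableOn_of_no_pair V fun a b ha hb hnp => ?_
  obtain ⟨x, hx, hxn⟩ := hnp
  haveI : (frattini ↥V).Characteristic := frattini_characteristic
  haveI hΦn : ((frattini ↥V).map V.subtype).Normal := ConjAct.normal_of_characteristic_of_normal
  set π := QuotientGroup.mk' ((frattini ↥V).map V.subtype) with hπ
  set W := V.map π with hW
  haveI : W.Normal := (inferInstance : V.Normal).map π (QuotientGroup.mk'_surjective _)
  have hWe : IsElementaryAbelian p W := by
    refine PGroup.isElementaryAbelian_of_forall ?_ ?_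
    · rintro _ ⟨v, hv, rfl⟩ _ ⟨w, hw, rfl⟩
      have hm : ⁅(⟨v, hv⟩ : V), ⟨w, hw⟩⁆ ∈ frattini ↥V :=
        PGroup.commutator_le_frattini hV
          (_root_.commutator_def (G := V) ▸ commutator_mem_commutator (mem_top _) (mem_top _))
      rw [← commutatorElement_eq_one_iff_mul_comm, ← map_commutatorElement]
      exact (QuotientGroup.eq_one_iff _).mpr ⟨_, hm, rfl⟩
    · rintro _ ⟨v, hv, rfl⟩
      rw [← map_pow]
      exact (QuotientGroup.eq_one_iff _).mpr ⟨_, PGroup.pow_mem_frattini hV ⟨v, hv⟩, rfl⟩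
  have hq : ∀ c : G, ⁅⁅V, zpowers c⁆, zpowers c⁆ = ⊥ → ⁅⁅W, zpowers (π c)⁆, zpowers (π c)⁆ = ⊥ := by
    intro c hc
    rw [← MonoidHom.map_zpowers, hW, ← map_commutator, ← map_commutator, hc, Subgroup.map_bot]
  obtain ⟨K, L, hL, -, hiso⟩ := exists_SL2_section hp2 hWe
    (H := closure ({π a, π b} : Set _)) (by rw [normalizer_eq_top]; exact le_top) rfl (hq a ha)
    (hq b hb) ⟨π x, by
      have := mem_map_of_mem π hx
      rwa [MonoidHom.map_closure, Set.image_pair] at this, fun n hn => by
      rw [← map_pow] at hn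
      obtain ⟨m, hm⟩ := exists_pow_mem_centralizer_of_frattini V hV hn
      exact hxn m hm⟩
  exact hfree (ConjFun.involves_trans ⟨K, L, hL, hiso⟩ (ConjFun.involves_quotient _))

end Cfsg.Agent.Quadratic
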