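import Cfsg.Agent.Lib.Quadratic.SectionFree
import Cfsg.Prelude.Def_LocalEven
import Mathlib.GroupTheory.SemidirectProduct

/-!
# `p`-stability from `SL(2, p)`-freeness of the automizers (`p` odd)

`LocallyFree p G`: no `N(Q)/C(Q)`, `Q` a `p`-subgroup, has `SL(2, p)` as a section.  The class is closed
under subgroups and quotients and consists of groups `p`-stable in the normalizer form.
-/

set_option autoImplicit false
set_option linter.style.haveILetI false

namespace Cfsg.Agent.Quadratic

open scoped MatrixGroups commutatorElement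
open Subgroup

universe u v

/-- No automizer of a `p`-subgroup has a section isomorphic to `SL(2, p)`. -/
def LocallyFree (p : ℕ) (G : Type u) [Group G] : Prop :=
  ∀ Q : Subgroup G, IsPGroup p Q → ∀ (K : Subgroup G) (φ : K →* SL(2, ZMod p)),
    K ≤ normalizer (Q : Set G) → Function.Surjective φ →
      ∃ x : K, (x : G) ∈ centralizer (Q : Set G) ∧ φ x ≠ 1

variable {G : Type u} [Group G] [Finite G] {p : ℕ} [hp : Fact p.Prime]

omit [Finite G] hp in
theorem LocallyFree.subgroup (h : LocallyFree p G) (L : Subgroup G) : LocallyFree p L := by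
  intro Q hQ K φ hK hφ
  set e := K.equivMapOfInjective L.subtype L.subtype_injective
  obtain ⟨x, hx, hx1⟩ := h (Q.map L.subtype) (hQ.map _) (K.map L.subtype)
    (φ.comp e.symm.toMonoidHom) ((map_mono hK).trans (le_normalizer_map L.subtype))
    (hφ.comp e.symm.surjective)
  refine ⟨e.symm x, mem_centralizer_iff.2 fun q hq => Subtype.ext ?_, hx1⟩
  have h1 := mem_centralizer_iff.1 hx _ (mem_map_of_mem L.subtype hq)
  have e1 : (((e.symm x : K) : L) : G) = x := congrArg Subtype.val (e.apply_symm_apply x)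
  rw [Subgroup.coe_mul, Subgroup.coe_mul, e1]
  exact h1

/-- A `p`-subgroup of a quotient lifts with its normaliser. -/
theorem exists_normalizer_lift (N : Subgroup G) [N.Normal] {Qb : Subgroup (G ⧸ N)}
    (hQb : IsPGroup p Qb) :
    ∃ Q : Subgroup G, IsPGroup p Q ∧ Q.map (QuotientGroup.mk' N) = Qb ∧
      ∀ y ∈ normalizer (Qb : Set (G ⧸ N)), ∃ x ∈ normalizer (Q : Set G), QuotientGroup.mk' N x = y := by
  set π := QuotientGroup.mk' N with hπ
  have hsurj : Function.Surjective π := QuotientGroup.mk'_surjective N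
  set D := Qb.comap π with hD
  obtain ⟨S⟩ := (inferInstance : Nonempty (Sylow p D))
  set Q := (S : Subgroup D).map D.subtype with hQ
  have hQD : Q ≤ D := map_subtype_le _
  have hDQ : ∀ d ∈ D, ∃ q ∈ Q, π d = π q := by
    intro d hd
    set ρ : D →* Qb := (π.comp D.subtype).codRestrict Qb fun z => z.2 with hρdef
    have hρ : Function.Surjective ρ := fun y => by
      obtain ⟨z, hz⟩ := hsurj y
      exact ⟨⟨z, by rw [hD, mem_comap, hz]; exact y.2⟩, Subtype.ext hz⟩
    have htop : (S : Subgroup D).map ρ = ⊤ := by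
      have h0 : ((S.mapSurjective hρ : Sylow p Qb) : Subgroup Qb) = ⊤ :=
        ((S.mapSurjective hρ).3 (hQb.to_subgroup ⊤) le_top).symm
      rwa [Sylow.coe_mapSurjective] at h0
    obtain ⟨q, hq, hqe⟩ := htop.ge (mem_top (ρ ⟨d, hd⟩))
    exact ⟨q, ⟨q, hq, rfl⟩, (congrArg Subtype.val hqe).symm⟩
  refine ⟨Q, S.2.map _, le_antisymm ?_ ?_, fun y hy => ?_⟩
  · rintro _ ⟨q, hq, rfl⟩
    exact hQD hq
  · intro y hy
    obtain ⟨d, rfl⟩ := hsurj y
    obtain ⟨q, hq, e⟩ := hDQ d hy
    exact ⟨q, hq, e.symm⟩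
  · obtain ⟨x, rfl⟩ := hsurj y
    set L := normalizer (D : Set G) with hL
    have hxL : x ∈ L := by
      rw [hL, mem_normalizer_iff]
      intro d
      rw [hD, mem_comap, mem_comap, map_mul, map_mul, map_inv]
      exact mem_normalizer_iff.1 hy (π d)
    have hDL : D ≤ L := le_normalizer
    haveI : (D.subgroupOf L).Normal := normal_in_normalizer
    set e := subgroupOfEquivOfLe hDL
    set S' := S.mapSurjective (f := e.symm.toMonoidHom) (show Function.Surjective e.symm.toMonoidHom from e.symm.surjective) with hS'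
    have htop := S'.normalizer_sup_eq_top
    obtain ⟨a, ha, b, hb, hab⟩ :=
      mem_sup_of_normal_right.1 (htop.ge (mem_top (⟨x, hxL⟩ : L)))
    have hQeq : (((S' : Subgroup ↥(D.subgroupOf L)).map (D.subgroupOf L).subtype).map L.subtype) = Q := by
      rw [hS', Sylow.coe_mapSurjective, Subgroup.map_map, Subgroup.map_map, hQ]
      rfl
    have haQ : (a : G) ∈ normalizer (Q : Set G) := by
      rw [← hQeq]
      exact le_normalizer_map L.subtype (mem_map_of_mem L.subtype ha)
    obtain ⟨q, hq, hbq⟩ := hDQ (b : G) hb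
    refine ⟨a * q, mul_mem haQ (le_normalizer hq), ?_⟩
    have e1 : ((a : L) : G) * (b : L) = x := congrArg Subtype.val hab
    rw [← e1, map_mul, map_mul, hbq]

theorem LocallyFree.quotient (h : LocallyFree p G) (N : Subgroup G) [N.Normal] :
    LocallyFree p (G ⧸ N) := by
  intro Qb hQb Kb φ hK hφ
  set π := QuotientGroup.mk' N with hπ
  obtain ⟨Q, hQp, hQ, hlift⟩ := exists_normalizer_lift N hQb
  set K := Kb.comap π ⊓ normalizer (Q : Set G) with hKdef
  let ψ : K →* SL(2, ZMod p) := φ.comp ((π.comp K.subtype).codRestrict Kb fun x => (mem_inf.1 x.2).1)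
  have hψ : Function.Surjective ψ := by
    intro s
    obtain ⟨y, rfl⟩ := hφ s
    obtain ⟨x, hx, hxy⟩ := hlift y (hK y.2)
    exact ⟨⟨x, mem_inf.2 ⟨by rw [mem_comap, hxy]; exact y.2, hx⟩⟩, congrArg φ (Subtype.ext hxy)⟩
  obtain ⟨x, hx, hx1⟩ := h Q hQp K ψ inf_le_right hψ
  refine ⟨⟨π x, (mem_inf.1 x.2).1⟩, mem_centralizer_iff.2 ?_, hx1⟩
  rw [← hQ]
  rintro _ ⟨q, hq, rfl⟩
  show π q * π x = π x * π q
  rw [← map_mul, ← map_mul, mem_centralizer_iff.1 hx q hq]

/-- In a locally free group no pair of quadratic elements acts as a non-`p`-group on a normal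
elementary abelian subgroup. -/
theorem no_pair_of_locallyFree (hp2 : p ≠ 2) (h : LocallyFree p G) (W : Subgroup G) [W.Normal]
    (hW : IsElementaryAbelian p W) {a b : G} (ha : ⁅⁅W, zpowers a⁆, zpowers a⁆ = ⊥)
    (hb : ⁅⁅W, zpowers b⁆, zpowers b⁆ = ⊥) {x : G} (hx : x ∈ closure ({a, b} : Set G))
    (hxn : ∀ n : ℕ, x ^ p ^ n ∉ centralizer (W : Set G)) : False := by
  have htop : ∀ g : G, g ∈ normalizer (W : Set G) := fun g => by rw [normalizer_eq_top]; exact mem_top g
  let f : G →* MulAut W := (Subgroup.normalizerMonoidHom W).comp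
    ((MonoidHom.id G).codRestrict (normalizer (W : Set G)) htop)
  have hf : ∀ (g : G) (w : W), ((f g w : W) : G) = g * w * g⁻¹ := fun g w => rfl
  set A := f.range with hA
  let S := SemidirectProduct W A A.subtype
  haveI : Finite S := Finite.of_equiv _ SemidirectProduct.equivProd.symm
  let μ : G →* S := (SemidirectProduct.inr : A →* S).comp f.rangeRestrict
  let V' : Subgroup S := (SemidirectProduct.inl : W →* S).range
  have hact : ∀ (g : G) (w : W),
      μ g * (SemidirectProduct.inl w : S) * (μ g)⁻¹ = SemidirectProduct.inl (f g w) := by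
    intro g w
    show (SemidirectProduct.inr : A →* S) (f.rangeRestrict g) * (SemidirectProduct.inl : W →* S) w *
      ((SemidirectProduct.inr : A →* S) (f.rangeRestrict g))⁻¹ = _
    rw [← map_inv, ← SemidirectProduct.inl_aut]
    rfl
  have hcent : ∀ g : G, μ g ∈ centralizer (V' : Set S) → g ∈ centralizer (W : Set G) := by
    intro g hg
    refine mem_centralizer_iff.2 fun w hw => ?_
    have h1 := mem_centralizer_iff.1 hg _ (MonoidHom.mem_range.2 ⟨⟨w, hw⟩, rfl⟩)
    have h2 := hact g ⟨w, hw⟩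
    rw [← h1, mul_inv_cancel_right] at h2
    have h3 : g * w * g⁻¹ = w := (hf g ⟨w, hw⟩).symm.trans
      (congrArg Subtype.val (SemidirectProduct.inl_injective h2)).symm
    conv_lhs => rw [← h3]
    group
  haveI hV'n : V'.Normal := by
    show ((SemidirectProduct.inl : W →* S).range).Normal
    rw [SemidirectProduct.range_inl_eq_ker_rightHom]
    exact MonoidHom.normal_ker _
  have hV' : IsElementaryAbelian p V' := by
    refine PGroup.isElementaryAbelian_of_forall ?_ ?_
    · rintro _ ⟨w, rfl⟩ _ ⟨w', rfl⟩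
      rw [← map_mul, ← map_mul, hW.1.is_comm.comm]
    · rintro _ ⟨w, rfl⟩
      rw [← map_pow, show w ^ p = 1 from Subtype.ext (hW.2 w w.2), map_one]
  have hq : ∀ c : G, ⁅⁅W, zpowers c⁆, zpowers c⁆ = ⊥ → ⁅⁅V', zpowers (μ c)⁆, zpowers (μ c)⁆ = ⊥ := by
    intro c hc
    rw [← MonoidHom.map_zpowers]
    set X := ⁅W, zpowers c⁆ with hX
    have hle : ⁅V', (zpowers c).map μ⁆ ≤ (X.subgroupOf W).map (SemidirectProduct.inl : W →* S) := by
      refine commutator_le.2 ?_
      rintro _ ⟨w, rfl⟩ _ ⟨t, ht, rfl⟩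
      refine ⟨w * f t w⁻¹, ?_, ?_⟩
      · show ((w * f t w⁻¹ : W) : G) ∈ X
        rw [Subgroup.coe_mul, hf, Subgroup.coe_inv]
        have := commutator_mem_commutator (w.2 : (w : G) ∈ W) ht
        rw [commutatorElement_def] at this
        simpa only [mul_assoc] using this
      · rw [map_mul, ← hact, map_inv, commutatorElement_def]
        simp only [mul_assoc]
    refine commutator_eq_bot_iff_le_centralizer.2 (hle.trans ?_)
    rintro _ ⟨y, hy, rfl⟩
    refine mem_centralizer_iff.2 ?_
    rintro _ ⟨t, ht, rfl⟩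
    have h1 : t * (y : G) = y * t :=
      mem_centralizer_iff.1 (commutator_eq_bot_iff_le_centralizer.1 hc hy) t ht
    have h2 := hact t y
    have h3 : f t y = y := Subtype.ext (by rw [hf, h1, mul_inv_cancel_right])
    rw [h3, mul_inv_eq_iff_eq_mul] at h2
    exact h2
  obtain ⟨K, L, hL, hKH, ⟨e⟩⟩ := exists_SL2_section hp2 hV'
    (H := closure ({μ a, μ b} : Set S)) (by rw [normalizer_eq_top]; exact le_top) rfl (hq a ha) (hq b hb)
    ⟨μ x, by
      have := mem_map_of_mem μ hx
      rwa [MonoidHom.map_closure, Set.image_pair] at this, fun n hn => hxn n (hcent _ (by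
        rwa [map_pow]))⟩
  have hKr : K ≤ μ.range := hKH.trans ((closure_le _).2 (by
    rintro z (rfl | rfl) <;> exact ⟨_, rfl⟩))
  let ψ : (K.comap μ : Subgroup G) →* SL(2, ZMod p) :=
    (e.toMonoidHom.comp (QuotientGroup.mk' _)).comp (μ.subgroupComap K)
  have hψ : Function.Surjective ψ := by
    refine (e.surjective.comp (QuotientGroup.mk'_surjective _)).comp ?_
    rintro ⟨z, hz⟩
    obtain ⟨g, rfl⟩ := hKr hz
    exact ⟨⟨g, hz⟩, rfl⟩
  obtain ⟨y, hy, hy1⟩ := h W (fun w => ⟨1, Subtype.ext (by simpa using hW.2 w w.2)⟩) (K.comap μ) ψ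
    (fun g _ => htop g) hψ
  refine hy1 ?_
  have h1 : μ (y : G) = 1 := by
    have h2 : f.rangeRestrict (y : G) = 1 := by
      refine Subtype.ext (MulEquiv.ext fun w => Subtype.ext ?_)
      show ((f y w : W) : G) = (w : G)
      rw [hf, ← mem_centralizer_iff.1 hy _ w.2, mul_inv_cancel_right]
    show (SemidirectProduct.inr (f.rangeRestrict (y : G)) : S) = 1
    rw [h2, map_one]
  show e.toMonoidHom (QuotientGroup.mk' _ (μ.subgroupComap K y)) = 1
  rw [show μ.subgroupComap K y = 1 from Subtype.ext h1, map_one, map_one]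

/-- A locally free group is `p`-stable on each normal `p`-subgroup. -/
theorem isPStableOn_of_locallyFree (hp2 : p ≠ 2) (h : LocallyFree p G) (V : Subgroup G) [V.Normal]
    (hV : IsPGroup p V) : IsPStableOn p V := by
  refine isPStableOn_of_no_pair V fun a b ha hb hnp => ?_
  obtain ⟨x, hx, hxn⟩ := hnp
  haveI : (frattini ↥V).Characteristic := frattini_characteristic
  haveI hΦn : ((frattini ↥V).map V.subtype).Normal := ConjAct.normal_of_characteristic_of_normal
  set π := QuotientGroup.mk' ((frattini ↥V).map V.subtype) with hπ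
  set W := V.map π with hW
  haveI : W.Normal := (inferInstance : V.Normal).map π (QuotientGroup.mk'_surjective _)
  have hWe : IsElementaryAbelian p W := by
    refine PGroup.isElementaryAbelian_of_forall ?_ ?_
    · rintro _ ⟨v, hv, rfl⟩ _ ⟨w, hw, rfl⟩
      have hm : ⁅(⟨v, hv⟩ : V), ⟨w, hw⟩⁆ ∈ frattini ↥V :=
        PGroup.commutator_le_frattini hV
          (_root_.commutator_def (G := V) ▸ commutator_mem_commutator (mem_top _) (mem_top _))
      rw [← commutatorElement_eq_one_iff_mul_comm, ← map_commutatorElement]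
      exact (QuotientGroup.eq_one_iff _).mpr ⟨_, hm, rfl⟩
    · rintro _ ⟨v, hv, rfl⟩
      rw [← map_pow]
      exact (QuotientGroup.eq_one_iff _).mpr ⟨_, PGroup.pow_mem_frattini hV ⟨v, hv⟩, rfl⟩
  have hq : ∀ c : G, ⁅⁅V, zpowers c⁆, zpowers c⁆ = ⊥ → ⁅⁅W, zpowers (π c)⁆, zpowers (π c)⁆ = ⊥ := by
    intro c hc
    rw [← MonoidHom.map_zpowers, hW, ← map_commutator, ← map_commutator, hc, Subgroup.map_bot]
  refine no_pair_of_locallyFree hp2 (h.quotient _) W hWe (hq a ha) (hq b hb) (x := π x) ?_ fun n hn => ?_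
  · have := mem_map_of_mem π hx
    rwa [MonoidHom.map_closure, Set.image_pair] at this
  · rw [← map_pow] at hn
    obtain ⟨m, hm⟩ := exists_pow_mem_centralizer_of_frattini V hV hn
    exact hxn m hm

/-- Locally free groups are `p`-stable in the normalizer form. -/
theorem isNormalizerPStable_of_locallyFree (hp2 : p ≠ 2) (h : LocallyFree p G) :
    Cfsg.IsNormalizerPStable p G := by
  intro P hP g hg hq
  set N := normalizer (P : Set G) with hN
  haveI : (P.subgroupOf N).Normal := normal_in_normalizer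
  have hq' : ⁅⁅P.subgroupOf N, zpowers (⟨g, hg⟩ : N)⁆, zpowers (⟨g, hg⟩ : N)⁆ = ⊥ := by
    apply Subgroup.map_injective N.subtype_injective
    rw [Subgroup.map_bot, map_commutator, map_commutator, MonoidHom.map_zpowers,
      map_subgroupOf_eq_of_le le_normalizer]
    exact hq
  have h1 := isPStableOn_of_locallyFree hp2 (h.subgroup N) (P.subgroupOf N) (hP.comap_subtype) ⟨g, hg⟩ hq'
  have e : centralizer ((P.subgroupOf N : Subgroup N) : Set N) = (centralizer (P : Set G)).subgroupOf N := by
    ext z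
    rw [mem_subgroupOf, mem_centralizer_iff, mem_centralizer_iff]
    exact ⟨fun hz w hw => congrArg Subtype.val (hz ⟨w, le_normalizer hw⟩ hw),
      fun hz w hw => Subtype.ext (hz w hw)⟩
  exact (PCore.mem_pCore_congr (QuotientGroup.quotientMulEquivOfEq e)).2 h1

/-- Every section of a locally free group is `p`-stable in the normalizer form. -/
theorem isNormalizerPStable_section_of_locallyFree (hp2 : p ≠ 2) (h : LocallyFree p G)
    (K R : Subgroup G) [(R.subgroupOf K).Normal] :
    Cfsg.IsNormalizerPStable p (↥K ⧸ R.subgroupOf K) :=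
  isNormalizerPStable_of_locallyFree hp2 ((h.subgroup K).quotient _)

end Cfsg.Agent.Quadratic
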