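import Cfsg.Agent.Lib.Quadratic.NaturalSection

/-!
Group form of `exists_natural_of_linear_aux`: for a quadratic pair on an elementary abelian `V` a
subgroup `X ≤ ⟨a, b⟩` maps onto `SL(2, p)`, compatibly with an `X`-invariant `V₁ ≤ V` mapping onto
`(ZMod p)²`.
-/

set_option autoImplicit false

namespace Cfsg.Agent.Quadratic

open scoped MatrixGroups commutatorElement
open Subgroup

variable {G : Type*} [Group G] {p : ℕ} [hp : Fact p.Prime]

theorem exists_natural_of_pair [Finite G] (hp2 : p ≠ 2) (V H : Subgroup G)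
    (hV : IsElementaryAbelian p V) (hHV : H ≤ normalizer (V : Set G)) {a b : G}
    (hab : H = closure {a, b})
    (ha : ⁅⁅V, zpowers a⁆, zpowers a⁆ = ⊥) (hb : ⁅⁅V, zpowers b⁆, zpowers b⁆ = ⊥)
    (hnp : ∃ h ∈ H, ∀ n : ℕ, h ^ p ^ n ∉ centralizer (V : Set G)) :
    ∃ (V₁ X : Subgroup G), V₁ ≤ V ∧ X ≤ H ∧ X ≤ normalizer (V₁ : Set G) ∧
      ∃ (α : X →* SL(2, ZMod p)) (c : V₁ →* Multiplicative (Fin 2 → ZMod p)),
        Function.Surjective α ∧ Function.Surjective c ∧
        ∀ (x : X) (v : V₁), ∃ h : (x : G) * v * (x : G)⁻¹ ∈ V₁,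
          (c ⟨_, h⟩).toAdd =
            Matrix.mulVec (α x : Matrix (Fin 2) (Fin 2) (ZMod p)) (c v).toAdd := by
  have haH : a ∈ H := hab ▸ subset_closure (by simp)
  have hbH : b ∈ H := hab ▸ subset_closure (by simp)
  let _ : CommGroup V := { (inferInstance : Group V) with mul_comm := hV.1.is_comm.comm }
  have : Module (ZMod p) (Additive V) := AddCommGroup.zmodModule fun x => by
    show Additive.ofMul ((Additive.toMul x) ^ p) = 0
    exact congrArg Additive.ofMul (Subtype.ext (hV.2 _ (Additive.toMul x).2))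
  have : Finite (Additive V) := inferInstanceAs (Finite V)
  let ρ₀ : H →* Module.End (ZMod p) (Additive V) :=
    { toFun := fun h => (conjAdd V (hHV h.2)).toZModLinearMap p
      map_one' := by
        refine LinearMap.ext fun x => Additive.toMul.injective (Subtype.ext ?_)
        rw [Module.End.one_apply, AddMonoidHom.coe_toZModLinearMap]
        simp [conjAdd]
      map_mul' := fun g h => by
        refine LinearMap.ext fun x => Additive.toMul.injective (Subtype.ext ?_)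
        rw [Module.End.mul_apply, AddMonoidHom.coe_toZModLinearMap, AddMonoidHom.coe_toZModLinearMap,
          AddMonoidHom.coe_toZModLinearMap]
        simp only [conjAdd, AddMonoidHom.coe_mk, ZeroHom.coe_mk, toMul_ofMul, Subgroup.coe_mul]
        group }
  have hval : ∀ (h : H) (x : Additive V),
      ((Additive.toMul (ρ₀ h x) : V) : G) = h * (Additive.toMul x : V) * (h : G)⁻¹ := fun h x => by
    simp [ρ₀, conjAdd]
  have hquad : ∀ (c : H), ⁅⁅V, zpowers (c : G)⁆, zpowers (c : G)⁆ = ⊥ →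
      (ρ₀ c - 1) * (ρ₀ c - 1) = 0 := by
    intro c hc
    refine LinearMap.ext fun x => ?_
    simp only [Module.End.mul_apply, LinearMap.sub_apply, Module.End.one_apply,
      LinearMap.zero_apply]
    rw [sub_eq_zero]
    refine Additive.toMul.injective (Subtype.ext ?_)
    rw [hval]
    have hm : ((Additive.toMul (ρ₀ c x - x) : V) : G) ∈ ⁅V, zpowers (c : G)⁆ := by
      rw [sub_eq_add_neg, toMul_add, toMul_neg, Subgroup.coe_mul, Subgroup.coe_inv, hval,
        ← commutatorElement_def, commutator_comm]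
      exact commutator_mem_commutator (mem_zpowers (c : G)) (Additive.toMul x).2
    rw [commutator_eq_bot_iff_le_centralizer.mp hc hm c (mem_zpowers _)]
    group
  have hgen : closure ({⟨a, haH⟩, ⟨b, hbH⟩} : Set H) = ⊤ := by
    apply map_injective H.subtype_injective
    rw [MonoidHom.map_closure, Set.image_pair, ← MonoidHom.range_eq_map, range_subtype]
    exact hab.symm
  have hnp' : ¬ PImage p ρ₀ := by
    intro hP
    obtain ⟨h, hh, hn⟩ := hnp
    obtain ⟨k, hk⟩ := hP ⟨h, hh⟩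
    refine hn k fun v hv => ?_
    have h1 := LinearMap.congr_fun hk (Additive.ofMul (⟨v, hv⟩ : V))
    have h2 := congrArg (fun z => ((Additive.toMul z : V) : G)) h1
    simp only [hval] at h2
    rw [mul_inv_eq_iff_eq_mul] at h2
    simpa using h2.symm
  obtain ⟨X₀, α₀, W₁, c₀, hα, hc, he⟩ := exists_natural_of_linear_aux hp2 hgen _ (Additive V) rfl
    ρ₀ (hquad _ ha) (hquad _ hb) hnp'
  let V₁ : Subgroup G :=
    { carrier := {g | ∃ z ∈ W₁, ((Additive.toMul z : V) : G) = g}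
      one_mem' := ⟨0, W₁.zero_mem, rfl⟩
      mul_mem' := by
        rintro _ _ ⟨z, hz, rfl⟩ ⟨w, hw, rfl⟩
        exact ⟨z + w, W₁.add_mem hz hw, rfl⟩
      inv_mem' := by
        rintro _ ⟨z, hz, rfl⟩
        exact ⟨-z, W₁.neg_mem hz, rfl⟩ }
  have hV₁ : ∀ g ∈ V₁, ∃ hg : g ∈ V, Additive.ofMul (⟨g, hg⟩ : V) ∈ W₁ := by
    rintro _ ⟨z, hz, rfl⟩
    exact ⟨(Additive.toMul z).2, hz⟩
  have hle : V₁ ≤ V := fun g hg => (hV₁ g hg).1
  let c : V₁ →* Multiplicative (Fin 2 → ZMod p) :=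
    { toFun := fun v => Multiplicative.ofAdd (c₀ ⟨Additive.ofMul (⟨v, hle v.2⟩ : V), (hV₁ v v.2).2⟩)
      map_one' := by
        rw [← ofAdd_zero, ← map_zero c₀]; rfl
      map_mul' := fun v w => by
        rw [← ofAdd_add, ← map_add]; rfl }
  have hconj : ∀ x : X₀, ∀ v ∈ V₁, ((x : H) : G) * v * ((x : H) : G)⁻¹ ∈ V₁ := by
    rintro x _ ⟨z, hz, rfl⟩
    obtain ⟨h, -⟩ := he x ⟨z, hz⟩
    exact ⟨_, h, hval _ _⟩
  set X := X₀.map H.subtype with hX
  let e : X₀ ≃* X := X₀.equivMapOfInjective H.subtype H.subtype_injective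
  have hex : ∀ x : X, ∃ x₀ : X₀, ((x₀ : H) : G) = (x : G) := fun x => by
    obtain ⟨y, hy, hyx⟩ := x.2
    exact ⟨⟨y, hy⟩, hyx⟩
  have hxn : X ≤ normalizer (V₁ : Set G) := by
    intro g hg
    obtain ⟨x₀, hx₀⟩ := hex ⟨g, hg⟩
    obtain ⟨y₀, hy₀⟩ := hex ⟨g⁻¹, inv_mem hg⟩
    simp only at hx₀ hy₀
    rw [mem_normalizer_iff]
    refine fun v => ⟨fun hv => hx₀ ▸ hconj x₀ v hv, fun hv => ?_⟩
    have := hconj y₀ _ hv
    rw [hy₀] at this
    simpa [mul_assoc] using this
  refine ⟨V₁, X, hle, map_subtype_le _, hxn, α₀.comp e.symm.toMonoidHom, c,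
    hα.comp e.symm.surjective, fun z => ?_, fun x v => ?_⟩
  · obtain ⟨w, hw⟩ := hc z.toAdd
    exact ⟨⟨_, w, w.2, rfl⟩, congrArg Multiplicative.ofAdd hw⟩
  · obtain ⟨x₀, rfl⟩ := e.surjective x
    have hm : ((e x₀ : X) : G) * v * ((e x₀ : X) : G)⁻¹ ∈ V₁ := hconj x₀ v v.2
    refine ⟨hm, ?_⟩
    obtain ⟨h, hh⟩ := he x₀ ⟨Additive.ofMul (⟨v, hle v.2⟩ : V), (hV₁ v v.2).2⟩
    simp only [MonoidHom.comp_apply, MulEquiv.coe_toMonoidHom, MulEquiv.symm_apply_apply]
    refine (congrArg c₀ (Subtype.ext ?_)).trans hh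
    exact Additive.toMul.injective (Subtype.ext ((hval (x₀ : H) (Additive.ofMul (⟨v, hle v.2⟩ : V))).trans rfl).symm)

end Cfsg.Agent.Quadratic
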