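import Cfsg.Prelude.Def_Transfer
import Cfsg.Agent.Lib.Quadratic.Pair
import Cfsg.Agent.Lib.PSL2.TwoSylow

/-!
# Two quadratic elements give a section acting as `SL(2, p)` on a plane over `ZMod p`

If `H = ⟨a, b⟩` acts on a `ZMod p`-space with `(a-1)² = (b-1)² = 0` and not as a `p`-group, some
`X ≤ H` maps onto `SL(2, p)` compatibly with an `X`-invariant subspace mapping onto `(ZMod p)²`
(`exists_natural_of_linear`; group form `exists_natural_of_pair`).

On an irreducible constituent `C = RS + SR`, `R = a-1`, `S = b-1`, generates a field `E` commuting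
with `H`; `v ∈ ker R` and `S v` form an `E`-basis in which `a = uu C`, `b = ll 1`.
-/

set_option autoImplicit false

namespace Cfsg.Agent.Quadratic

open scoped MatrixGroups commutatorElement
open Subgroup PSL2

universe u v w

section Normal

variable {E : Type*} [Field E] [Fintype E] {p : ℕ} [hp : Fact p.Prime] [CharP E p]

/-- A copy of `SL(2, p)` is conjugate to a standard one. -/
theorem exists_conj_twist (hp2 : p ≠ 2) (θ : SL(2, ZMod p) →* SL(2, E)) (hθ : Function.Injective θ) :
    ∃ (c : SL(2, E)) (s r : E) (h : s * r = 1), ∀ g, θ g = c * twist s r h g * c⁻¹ := by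
  have hu : θ (uu 1) ^ p ^ 1 = 1 := by
    rw [pow_one, ← map_pow, uu_pow, CharP.cast_eq_zero (ZMod p) p, zero_mul, uu_zero, map_one]
  have hl : θ (ll (-1)) ^ p ^ 1 = 1 := by
    rw [pow_one, ← map_pow, ll_pow, CharP.cast_eq_zero (ZMod p) p, zero_mul, ll_zero, map_one]
  obtain ⟨c₀, s, hcs⟩ := exists_conj_uu_of_pow_ppow p hu
  have hs : s ≠ 0 := by
    rintro rfl
    rw [uu_zero, mul_one, mul_inv_cancel, ← map_one θ] at hcs
    simpa using hθ hcs
  have hl' : (c₀⁻¹ * θ (ll (-1)) * c₀) ^ p ^ 1 = 1 := by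
    have e : c₀⁻¹ * θ (ll (-1)) * c₀ = MulAut.conj c₀⁻¹ (θ (ll (-1))) := by simp
    rw [e, ← map_pow, hl, map_one]
  obtain ⟨d, r, hdr⟩ := exists_conj_uu_of_pow_ppow p hl'
  have hd10 : d 1 0 ≠ 0 := by
    intro h0
    have hmem : c₀⁻¹ * θ (ll (-1)) * c₀ ∈ unip E := by
      rw [hdr]; exact unip_conj_mem h0 (uu_mem_unip r)
    obtain ⟨r', hr'⟩ := mem_unip.1 hmem
    have hcomm : Commute (θ (uu 1)) (θ (ll (-1))) := by
      rw [hcs, show θ (ll (-1)) = c₀ * uu r' * c₀⁻¹ by rw [hr']; group]
      have : Commute (uu s) (uu r') := by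
        rw [Commute, SemiconjBy, uu_mul_uu, uu_mul_uu, add_comm]
      exact this.map (MulAut.conj c₀).toMonoidHom
    have h := hθ ((map_mul θ _ _).trans (hcomm.eq.trans (map_mul θ _ _).symm))
    have := congrArg (fun g : SL(2, ZMod p) => g 0 0) h
    simp [mul00] at this
  set x := d 0 0 / d 1 0
  set c := c₀ * uu x with hc
  set t := -(d 1 0 ^ 2 * r) with ht
  have huu : θ (uu 1) = c * uu s * c⁻¹ := by
    have e : uu x * uu s * (uu x)⁻¹ = uu s := by
      rw [uu_mul_uu, add_comm, ← uu_mul_uu, mul_inv_cancel_right]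
    rw [hcs, hc]; conv_lhs => rw [← e]
    group
  have hll : θ (ll (-1)) = c * ll t * c⁻¹ := by
    have e : ll t = (uu (-x) * d) * uu r * (uu (-x) * d)⁻¹ := by
      set d' := uu (-x) * d with hd'
      have h00 : d' 0 0 = 0 := by
        rw [hd', mul00, uu00, uu01]
        simp only [x]
        field_simp
        ring
      have h10 : d' 1 0 = d 1 0 := by rw [hd', mul10]; simp
      have hdet := det_eq d'
      rw [h00, h10] at hdet
      apply ext2 <;>
        simp only [mul00, mul01, mul10, mul11, inv00, inv01, inv10, inv11, h00, h10, uu00, uu01,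
          uu10, uu11, ll00, ll01, ll10, ll11, ht]
      · linear_combination -hdet
      · ring
      · ring
      · linear_combination -hdet
    rw [e, show θ (ll (-1)) = c₀ * (c₀⁻¹ * θ (ll (-1)) * c₀) * c₀⁻¹ by group, hdr, hc, ← uu_inv]
    group
  -- `uu 1 * ll (-1) * uu 1` has order four
  have h2 : (2 : E) ≠ 0 := PSL2.two_ne_zero_of_charP hp2
  have hw : (uu 1 * ll (-1) * uu 1 : SL(2, ZMod p)) * (uu 1 * ll (-1) * uu 1) = -1 := by
    refine sq_eq_neg_one_of_tr_eq_zero ?_
    simp [tr_def, mul00, mul11, mul01, mul10]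
  have hneg : θ (-1) = -1 := by
    refine (eq_pm_of_mul_self_eq_one h2 ?_).resolve_left fun e => ?_
    · rw [← map_mul]; simp
    · exact neg_one_ne_one (PSL2.two_ne_zero_of_charP hp2) (hθ (e.trans (map_one θ).symm))
  have hW : (uu s * ll t * uu s) * (uu s * ll t * uu s) = -1 := by
    have h := congrArg (fun z => c⁻¹ * z * c) ((map_mul θ _ _).symm.trans ((congrArg θ hw).trans hneg))
    simp only [map_mul, huu, hll] at h
    refine Eq.trans ?_ (h.trans ?_)
    · group
    · simp
  have hst : s * t = -1 := by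
    have := tr_eq_zero_of_sq_eq_neg_one hW
    simp [tr_def, mul00, mul11, mul01, mul10] at this
    refine mul_left_cancel₀ h2 ?_
    linear_combination this
  refine ⟨c, s, -t, by linear_combination -hst, fun g => ?_⟩
  have key : θ = (MulAut.conj c).toMonoidHom.comp (twist (p := p) s (-t) (by linear_combination -hst)) := by
    refine MonoidHom.eq_of_eqOn_top ?_
    rw [← eq_top_of_uu_ll (H := θ.eqLocus _) (fun q => ?_) (fun q => ?_)]
    · exact fun g hg => hg
    · rw [show uu q = uu (1 : ZMod p) ^ q.val by rw [uu_pow, ZMod.natCast_zmod_val, mul_one]]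
      refine Subgroup.pow_mem _ ?_ _
      show θ (uu 1) = c * twist s (-t) _ (uu 1) * c⁻¹
      rw [huu, twist_uu, ZMod.val_one, pow_one]
    · rw [show ll q = (ll (-1 : ZMod p))⁻¹ ^ q.val by
        rw [ll_inv, neg_neg, ll_pow, ZMod.natCast_zmod_val, mul_one]]
      refine Subgroup.pow_mem _ (Subgroup.inv_mem _ ?_) _
      show θ (ll (-1)) = c * twist s (-t) _ (ll (-1)) * c⁻¹
      rw [hll, show ll (-1 : ZMod p) = (ll 1)⁻¹ by rw [ll_inv], map_inv, twist_ll, ZMod.val_one,
        Nat.cast_one, one_mul, ll_inv, neg_neg]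
  exact DFunLike.congr_fun key g

end Normal

/-- `X ≤ H` maps onto `SL(2, p)` compatibly with a map from a subspace onto `(ZMod p)²`. -/
def HasNaturalPlane (p : ℕ) [Fact p.Prime] {H : Type w} [Group H] {W : Type v} [AddCommGroup W]
    [Module (ZMod p) W] (ρ : H →* Module.End (ZMod p) W) : Prop :=
  ∃ (X : Subgroup H) (α : X →* SL(2, ZMod p)) (W₁ : Submodule (ZMod p) W)
    (c : W₁ →ₗ[ZMod p] (Fin 2 → ZMod p)), Function.Surjective α ∧ Function.Surjective c ∧
      ∀ (x : X) (z : W₁), ∃ h : ρ (x : H) (z : W) ∈ W₁,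
        c ⟨_, h⟩ = Matrix.mulVec (α x : Matrix (Fin 2) (Fin 2) (ZMod p)) (c z)

variable {p : ℕ} [hp : Fact p.Prime] {H : Type w} [Group H]

theorem hasNaturalPlane_of_field (hp2 : p ≠ 2) [Finite H] {a b : H}
    (hgen : closure ({a, b} : Set H) = ⊤) {W : Type v} [AddCommGroup W] [Module (ZMod p) W]
    (ρ : H →* Module.End (ZMod p) W) {E : Type*} [Field E] [Fintype E] [Algebra (ZMod p) E]
    [Module E W] [IsScalarTower (ZMod p) E W] {lam : E} {x y : W}
    (hbij : Function.Bijective fun z : Fin 2 → E => z 0 • x + z 1 • y)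
    (ha : ∀ r s : E, ρ a (r • x + s • y) = (r + lam * s) • x + s • y)
    (hb : ∀ r s : E, ρ b (r • x + s • y) = r • x + (r + s) • y)
    (hnp : ¬ PImage p ρ) : HasNaturalPlane p ρ := by
  have : CharP E p := charP_of_injective_algebraMap (algebraMap (ZMod p) E).injective p
  set Φ : (Fin 2 → E) → W := fun z => z 0 • x + z 1 • y with hΦ
  have hmul : ∀ (g : SL(2, E)) (z : Fin 2 → E), Matrix.mulVec (g : Matrix (Fin 2) (Fin 2) E) z =
      ![g 0 0 * z 0 + g 0 1 * z 1, g 1 0 * z 0 + g 1 1 * z 1] := fun g z => by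
    ext i; fin_cases i <;> simp [Matrix.mulVec, dotProduct, Fin.sum_univ_two]
  have hex : ∀ h : H, ∃ g : SL(2, E), ∀ z, ρ h (Φ z) = Φ (Matrix.mulVec (g : Matrix (Fin 2) (Fin 2) E) z) := by
    let S : Subgroup H :=
      { carrier := {h | ∃ g : SL(2, E), ∀ z,
          ρ h (Φ z) = Φ (Matrix.mulVec (g : Matrix (Fin 2) (Fin 2) E) z)}
        one_mem' := ⟨1, fun z => by simp⟩
        mul_mem' := by
          rintro h k ⟨g, hg⟩ ⟨g', hg'⟩
          exact ⟨g * g', fun z => by
            rw [map_mul, Module.End.mul_apply, hg', hg, Matrix.mulVec_mulVec,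
              Matrix.SpecialLinearGroup.coe_mul]⟩
        inv_mem' := by
          rintro h ⟨g, hg⟩
          refine ⟨g⁻¹, fun z => ?_⟩
          have e := hg (Matrix.mulVec ((g⁻¹ : SL(2, E)) : Matrix (Fin 2) (Fin 2) E) z)
          rw [Matrix.mulVec_mulVec, ← Matrix.SpecialLinearGroup.coe_mul, mul_inv_cancel,
            Matrix.SpecialLinearGroup.coe_one, Matrix.one_mulVec] at e
          rw [← e, ← Module.End.mul_apply, ← map_mul, inv_mul_cancel, map_one, Module.End.one_apply] }
    have haS : a ∈ S := ⟨uu lam, fun z => by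
      rw [hmul]; simp only [hΦ, uu00, uu01, uu10, uu11, Matrix.cons_val_zero, Matrix.cons_val_one]
      rw [ha]; simp⟩
    have hbS : b ∈ S := ⟨ll 1, fun z => by
      rw [hmul]; simp only [hΦ, ll00, ll01, ll10, ll11, Matrix.cons_val_zero, Matrix.cons_val_one]
      rw [hb]; simp⟩
    intro h
    have : closure ({a, b} : Set H) ≤ S := by
      rw [closure_le]; rintro _ (rfl | rfl) <;> assumption
    exact this (hgen ▸ mem_top h)
  choose f hf using hex
  have huniq : ∀ (h : H) (g : SL(2, E)), (∀ z, ρ h (Φ z) = Φ (Matrix.mulVec (g : Matrix (Fin 2) (Fin 2) E) z)) →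
      f h = g := fun h g hg => by
    have e : ∀ z, Matrix.mulVec (f h : Matrix (Fin 2) (Fin 2) E) z =
        Matrix.mulVec (g : Matrix (Fin 2) (Fin 2) E) z := fun z => hbij.1 ((hf h z).symm.trans (hg z))
    exact Subtype.ext (Matrix.ext_of_mulVec_single fun i => e _)
  let φ : H →* SL(2, E) :=
    { toFun := f
      map_one' := huniq _ _ fun z => by simp
      map_mul' := fun h k => huniq _ _ fun z => by
        rw [map_mul, Module.End.mul_apply, hf k, hf h, Matrix.mulVec_mulVec,
          Matrix.SpecialLinearGroup.coe_mul] }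
  have hφa : φ a = uu lam := huniq _ _ fun z => by
    rw [hmul]; simp only [hΦ, uu00, uu01, uu10, uu11, Matrix.cons_val_zero, Matrix.cons_val_one]
    rw [ha]; simp
  have hφb : φ b = ll 1 := huniq _ _ fun z => by
    rw [hmul]; simp only [hΦ, ll00, ll01, ll10, ll11, Matrix.cons_val_zero, Matrix.cons_val_one]
    rw [hb]; simp
  have hnp' : ¬ IsPGroup p φ.range := by
    rw [isPGroup_range_iff]
    intro hP
    refine hnp fun h => ?_
    obtain ⟨k, hk⟩ := hP h
    refine ⟨k, LinearMap.ext fun w => ?_⟩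
    obtain ⟨z, rfl⟩ := hbij.2 w
    show ρ (h ^ p ^ k) (Φ z) = Φ z
    rw [hf, show f (h ^ p ^ k) = 1 from hk, Matrix.SpecialLinearGroup.coe_one, Matrix.one_mulVec]
  have : Finite φ.range := Finite.of_surjective _ φ.rangeRestrict_surjective
  have hS : 1 < Nat.card (Sylow p φ.range) := by
    by_contra hle
    have : Subsingleton (Sylow p φ.range) := Finite.card_le_one_iff_subsingleton.1 (by omega)
    obtain ⟨P⟩ : Nonempty (Sylow p φ.range) := inferInstance
    refine hnp' ((P.isPGroup'.map φ.range.subtype).to_le ?_)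
    have hmem : ∀ g : H, φ g ^ p = 1 → φ g ∈ (P : Subgroup φ.range).map φ.range.subtype := by
      intro g hg
      have hQ : IsPGroup p (zpowers (φ.rangeRestrict g)) := by
        rintro ⟨z, k, rfl⟩
        exact ⟨1, Subtype.ext (by
          rw [pow_one, Subgroup.coe_pow, ← zpow_natCast, ← zpow_mul, mul_comm, zpow_mul,
            zpow_natCast, show φ.rangeRestrict g ^ p = 1 from Subtype.ext hg, one_zpow]; rfl)⟩
      obtain ⟨Q, hQle⟩ := hQ.exists_le_sylow
      rw [Subsingleton.elim Q P] at hQle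
      exact mem_map_of_mem φ.range.subtype (hQle (mem_zpowers _))
    refine (le_of_eq ((MonoidHom.range_eq_map φ).trans (by rw [← hgen, MonoidHom.map_closure]))).trans
      ((closure_le _).2 ?_)
    rintro _ ⟨g, (rfl | rfl), rfl⟩
    · exact hmem _ (by rw [hφa, uu_pow, CharP.cast_eq_zero E p, zero_mul, uu_zero])
    · exact hmem _ (by rw [hφb, ll_pow, CharP.cast_eq_zero E p, zero_mul, ll_zero])
  obtain ⟨Y, hY, ⟨e⟩⟩ := PSL2.exists_subgroup_mulEquiv hp2 φ.range hS
  set θ : SL(2, ZMod p) →* SL(2, E) := Y.subtype.comp e.symm.toMonoidHom with hθdef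
  have hθ : Function.Injective θ := Y.subtype_injective.comp e.symm.injective
  obtain ⟨c, s, r, hsr, hθc⟩ := exists_conj_twist hp2 θ hθ
  have hθY : ∀ g, θ g ∈ Y := fun g => (e.symm g).2
  let α : Y.comap φ →* SL(2, ZMod p) :=
    e.toMonoidHom.comp ((φ.comp (Y.comap φ).subtype).codRestrict Y fun z => z.2)
  have hα : ∀ z : Y.comap φ, φ (z : H) = θ (α z) := fun z => by
    show φ (z : H) = ((e.symm (e ⟨φ (z : H), z.2⟩) : Y) : SL(2, E))
    rw [MulEquiv.symm_apply_apply]
  have hαs : Function.Surjective α := fun g => by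
    obtain ⟨h, hh⟩ := hY (hθY g)
    exact ⟨⟨h, show φ h ∈ Y from hh ▸ hθY g⟩, hθ (by rw [← hα]; exact hh)⟩
  let Ψ : (Fin 2 → ZMod p) →ₗ[ZMod p] W :=
    { toFun := fun z => Φ (Matrix.mulVec (c : Matrix (Fin 2) (Fin 2) E)
        ![s * algebraMap _ _ (z 0), algebraMap _ _ (z 1)])
      map_add' := fun z z' => by
        simp only [hΦ, ← add_add_add_comm, ← add_smul, hmul, Matrix.cons_val_zero, Matrix.cons_val_one,
          Pi.add_apply, map_add]
        ring_nf
      map_smul' := fun k z => by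
        simp only [hΦ, hmul, Matrix.cons_val_zero, Matrix.cons_val_one, Pi.smul_apply, smul_eq_mul,
          map_mul, RingHom.id_apply, smul_add, ← algebraMap_smul E k, smul_smul]
        ring_nf }
  have hΨi : Function.Injective Ψ := by
    intro z z' h
    have h1 := congrArg (Matrix.mulVec ((c⁻¹ : SL(2, E)) : Matrix (Fin 2) (Fin 2) E)) (hbij.1 h)
    rw [Matrix.mulVec_mulVec, Matrix.mulVec_mulVec, ← Matrix.SpecialLinearGroup.coe_mul,
      inv_mul_cancel, Matrix.SpecialLinearGroup.coe_one, Matrix.one_mulVec, Matrix.one_mulVec] at h1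
    ext i
    fin_cases i
    · exact (algebraMap (ZMod p) E).injective (mul_left_cancel₀ (left_ne_zero_of_mul_eq_one hsr)
        (congrFun h1 0))
    · exact (algebraMap (ZMod p) E).injective (congrFun h1 1)
  let ι := LinearEquiv.ofInjective Ψ hΨi
  refine ⟨Y.comap φ, α, LinearMap.range Ψ, ι.symm.toLinearMap, hαs, ι.symm.surjective, ?_⟩
  intro z w
  obtain ⟨u, rfl⟩ := ι.surjective w
  have key : ρ (z : H) (Ψ u) = Ψ (Matrix.mulVec (α z : Matrix (Fin 2) (Fin 2) (ZMod p)) u) := by
    show ρ (z : H) (Φ _) = Φ _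
    rw [hf, show f (z : H) = θ (α z) from hα z, hθc, Matrix.mulVec_mulVec,
      ← Matrix.SpecialLinearGroup.coe_mul, inv_mul_cancel_right,
      Matrix.SpecialLinearGroup.coe_mul, ← Matrix.mulVec_mulVec]
    congr 1
    have hincl : ∀ k : ZMod p, (incl k : E) = algebraMap (ZMod p) E k := fun k => by
      congr 1; exact Subsingleton.elim _ _
    congr 1
    ext i
    fin_cases i <;> simp [hmul, hincl, Matrix.mulVec, dotProduct, Fin.sum_univ_two]
    · ring
    · linear_combination (algebraMap (ZMod p) E ((α z) 1 0) * algebraMap (ZMod p) E (u 0)) * hsr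
  refine ⟨⟨_, key.symm⟩, ?_⟩
  simp only [LinearEquiv.coe_coe, LinearEquiv.symm_apply_apply]
  rw [LinearEquiv.symm_apply_eq]
  exact Subtype.ext key

theorem hasNaturalPlane_of_irreducible (hp2 : p ≠ 2) [Finite H] {a b : H}
    (hgen : closure ({a, b} : Set H) = ⊤) {W : Type v} [AddCommGroup W] [Module (ZMod p) W]
    [Finite W] (ρ : H →* Module.End (ZMod p) W)
    (ha : (ρ a - 1) * (ρ a - 1) = 0) (hb : (ρ b - 1) * (ρ b - 1) = 0)
    (hirr : ∀ U : Submodule (ZMod p) W, (∀ h, ∀ z ∈ U, ρ h z ∈ U) → U = ⊥ ∨ U = ⊤)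
    (hnp : ¬ PImage p ρ) : HasNaturalPlane p ρ := by
  classical
  have : Nontrivial W := by
    by_contra hW
    rw [not_nontrivial_iff_subsingleton] at hW
    exact hnp fun h => ⟨0, LinearMap.ext fun z => Subsingleton.elim _ _⟩
  set R := ρ a - 1 with hR
  set S := ρ b - 1 with hS
  set C := R * S + S * R with hC
  have hRC : C * R = R * C := by
    rw [hC, add_mul, mul_add, mul_assoc S, ha, mul_zero, add_zero, ← mul_assoc R R, ha, zero_mul,
      zero_add, mul_assoc]
  have hSC : C * S = S * C := by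
    rw [hC, add_mul, mul_add, mul_assoc R, hb, mul_zero, zero_add, ← mul_assoc S S, hb, zero_mul,
      add_zero, mul_assoc]
  set E := Algebra.adjoin (ZMod p) ({C} : Set (Module.End (ZMod p) W)) with hE
  have hcent : ∀ T ∈ E, ∀ T', C * T' = T' * C → T * T' = T' * T := fun T hT T' hT' =>
    have : T ∈ Subalgebra.centralizer (ZMod p) {T'} :=
      Algebra.adjoin_le (by
        rintro _ rfl
        exact (Subalgebra.mem_centralizer_iff (ZMod p)).2 (by rintro _ rfl; exact hT'.symm)) hT
    ((Subalgebra.mem_centralizer_iff (ZMod p)).1 this T' rfl).symm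
  have hcommE : ∀ T ∈ E, ∀ T' ∈ E, T * T' = T' * T := fun T hT T' hT' =>
    hcent T hT T' (hcent T' hT' C rfl).symm
  have hker : ∀ T ∈ E, T = 0 ∨ Function.Injective T := by
    intro T hT
    have hTa : T * R = R * T := hcent T hT R hRC
    have hTb : T * S = S * T := hcent T hT S hSC
    have hmap : ∀ (g : H), ρ g - 1 = R ∨ ρ g - 1 = S → ∀ z, T z = 0 → T (ρ g z) = 0 := by
      intro g hg z hz
      rw [show ρ g z = (ρ g - 1) z + z by simp, map_add, hz, add_zero]
      rcases hg with h | h <;> rw [h, ← Module.End.mul_apply]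
      · rw [hTa, Module.End.mul_apply, hz, map_zero]
      · rw [hTb, Module.End.mul_apply, hz, map_zero]
    rcases hirr (LinearMap.ker T) (forall_invariant hgen ρ _ (fun z hz => hmap a (Or.inl rfl) z hz)
      (fun z hz => hmap b (Or.inr rfl) z hz)) with h | h
    · exact Or.inr (LinearMap.ker_eq_bot.1 h)
    · exact Or.inl (LinearMap.ker_eq_top.1 h)
  obtain ⟨v₀, hv₀⟩ : ∃ v₀ : W, v₀ ≠ 0 := exists_ne 0
  obtain ⟨v, hv0, hRv⟩ : ∃ v : W, v ≠ 0 ∧ R v = 0 := by
    by_cases h : R v₀ = 0
    · exact ⟨v₀, hv₀, h⟩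
    · exact ⟨R v₀, h, LinearMap.congr_fun ha v₀⟩
  have hRSv : R (S v) = C v := by
    simp [hC, Module.End.mul_apply, hRv]
  have hSSv : S (S v) = 0 := LinearMap.congr_fun hb v
  have : Finite (Module.End (ZMod p) W) := Finite.of_injective _ DFunLike.coe_injective
  have : Finite E := Finite.of_injective _ Subtype.val_injective
  let _ : CommRing E := { (inferInstance : Ring E) with mul_comm := fun x y => Subtype.ext (hcommE _ x.2 _ y.2) }
  have : Nontrivial E := ⟨⟨0, 1, fun h => hv0 (by
    have := LinearMap.congr_fun (congrArg Subtype.val h) v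
    simpa using this.symm)⟩⟩
  have : NoZeroDivisors E := ⟨fun {x y} h => by
    rcases hker x.1 x.2 with hx | hx
    · exact Or.inl (Subtype.ext hx)
    · refine Or.inr (Subtype.ext (LinearMap.ext fun z => hx ?_))
      have := LinearMap.congr_fun (congrArg Subtype.val h) z
      simpa using this⟩
  have : IsDomain E := NoZeroDivisors.to_isDomain E
  let _ : Field E := (Finite.isField_of_domain E).toField
  let _ : Fintype E := Fintype.ofFinite _
  let lam : E := ⟨C, Algebra.self_mem_adjoin_singleton _ _⟩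
  have hsmul : ∀ (r : E) (z : W), r • z = (r : Module.End (ZMod p) W) z := fun _ _ => rfl
  have happ : ∀ (r : E) (T : Module.End (ZMod p) W), C * T = T * C → ∀ z,
      T (r • z) = r • T z := fun r T hT z => by
    rw [hsmul, hsmul, ← Module.End.mul_apply, ← hcent r.1 r.2 T hT, Module.End.mul_apply]
  have hA : ∀ r s : E, ρ a (r • v + s • S v) = (r + lam * s) • v + s • S v := by
    intro r s
    rw [show ρ a (r • v + s • S v) = R (r • v + s • S v) + (r • v + s • S v) by simp [hR],
      map_add, happ r R hRC, happ s R hRC, hRv, hRSv, smul_zero, zero_add, add_smul, mul_comm lam,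
      mul_smul, show lam • v = C v from rfl]
    abel
  have hB : ∀ r s : E, ρ b (r • v + s • S v) = r • v + (r + s) • S v := by
    intro r s
    rw [show ρ b (r • v + s • S v) = S (r • v + s • S v) + (r • v + s • S v) by simp [hS],
      map_add, happ r S hSC, happ s S hSC, hSSv, smul_zero, add_zero, add_smul]
    abel
  have hinv : ∀ (U : Submodule (ZMod p) W), (∀ r s : E, r • v + s • S v ∈ U) →
      (∀ z ∈ U, ∃ r s : E, r • v + s • S v = z) → U = ⊤ := by
    intro U hU hU'
    refine (hirr U (forall_invariant hgen ρ U ?_ ?_)).resolve_left fun h => hv0 ?_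
    · intro z hz
      obtain ⟨r, s, rfl⟩ := hU' z hz
      rw [hA]; exact hU _ _
    · intro z hz
      obtain ⟨r, s, rfl⟩ := hU' z hz
      rw [hB]; exact hU _ _
    · have := hU 1 0
      rw [h] at this
      simpa using this
  let U : Submodule (ZMod p) W :=
    { carrier := {z | ∃ r s : E, r • v + s • S v = z}
      zero_mem' := ⟨0, 0, by simp⟩
      add_mem' := by
        rintro _ _ ⟨r, s, rfl⟩ ⟨r', s', rfl⟩
        exact ⟨r + r', s + s', by rw [add_smul, add_smul]; abel⟩
      smul_mem' := by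
        rintro k _ ⟨r, s, rfl⟩
        exact ⟨k • r, k • s, by rw [smul_assoc, smul_assoc, smul_add]⟩ }
  have hUtop : U = ⊤ := hinv U (fun r s => ⟨r, s, rfl⟩) (fun z hz => hz)
  have hlam : lam ≠ 0 := by
    intro h0
    have hC0 : C = 0 := congrArg Subtype.val h0
    refine hnp fun h => ?_
    -- `ρ a = 1` and `ρ b` is unipotent
    have hR0 : R = 0 := by
      refine LinearMap.ext fun z => ?_
      have hz : z ∈ U := hUtop ▸ Submodule.mem_top
      obtain ⟨r, s, rfl⟩ := hz
      rw [map_add, happ r R hRC, happ s R hRC, hRv, hRSv, hC0]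
      simp
    have hra : ρ a = 1 := sub_eq_zero.1 (by rw [← hR, hR0])
    have hle : closure ({a, b} : Set H) ≤ (zpowers b ⊔ ρ.ker) := by
      rw [closure_le]
      rintro z (hz | hz) <;> subst z
      · exact mem_sup_right hra
      · exact mem_sup_left (mem_zpowers _)
    have hh := hle (hgen ▸ mem_top h)
    obtain ⟨y, hy, k, hk, rfl⟩ := Subgroup.mem_sup_of_normal_right.1 hh
    obtain ⟨n, rfl⟩ := mem_zpowers_iff.1 hy
    have : CharP (ZMod p) p := inferInstance
    have hbp : ρ (b ^ p) = 1 := by rw [map_pow]; exact pow_eq_one_of_quadratic (K := ZMod p) hb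
    refine ⟨1, ?_⟩
    have e1 : (b ^ n) ^ p ∈ ρ.ker := by
      rw [← zpow_natCast, ← zpow_mul, mul_comm, zpow_mul, zpow_natCast]
      exact zpow_mem (show b ^ p ∈ ρ.ker from hbp) n
    have : ((b ^ n * k) : H) ^ p ∈ ρ.ker := by
      have h1 : (QuotientGroup.mk (b ^ n * k) : H ⧸ ρ.ker) ^ p = 1 := by
        rw [QuotientGroup.mk_mul_of_mem _ hk, ← QuotientGroup.mk_pow]
        exact (QuotientGroup.eq_one_iff _).2 e1
      rwa [← QuotientGroup.mk_pow, QuotientGroup.eq_one_iff] at h1
    rw [pow_one]; exact this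
  refine hasNaturalPlane_of_field hp2 hgen ρ (E := E) (lam := lam) (x := v) (y := S v)
    ⟨fun z z' h => ?_, fun w => ?_⟩ hA hB hnp
  · have h' : (z 0 - z' 0) • v + (z 1 - z' 1) • S v = 0 := by
      simp only at h
      rw [sub_smul, sub_smul, sub_add_sub_comm, h, sub_self]
    have h1 := congrArg R h'
    rw [map_add, happ _ R hRC, happ _ R hRC, hRv, hRSv, smul_zero, zero_add, map_zero,
      show C v = lam • v from rfl, smul_smul, smul_eq_zero] at h1
    have h11 : z 1 - z' 1 = 0 := (mul_eq_zero.1 (h1.resolve_right hv0)).resolve_right hlam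
    rw [h11, zero_smul, add_zero, smul_eq_zero] at h'
    funext i
    fin_cases i
    · exact sub_eq_zero.1 (h'.resolve_right hv0)
    · exact sub_eq_zero.1 h11
  · obtain ⟨r, s, hrs⟩ : w ∈ U := hUtop ▸ Submodule.mem_top
    exact ⟨![r, s], by simpa using hrs⟩

theorem exists_natural_of_linear_aux (hp2 : p ≠ 2) [Finite H] {a b : H}
    (hgen : closure ({a, b} : Set H) = ⊤) (n : ℕ) :
    ∀ (W : Type v) [AddCommGroup W] [Module (ZMod p) W] [Finite W],
      Module.finrank (ZMod p) W = n → ∀ ρ : H →* Module.End (ZMod p) W,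
      (ρ a - 1) * (ρ a - 1) = 0 → (ρ b - 1) * (ρ b - 1) = 0 → ¬ PImage p ρ →
      HasNaturalPlane p ρ := by
  induction n using Nat.strong_induction_on with
  | _ n ih =>
  intro W _ _ _ hn ρ ha hb hnp
  by_cases hirr : ∀ U : Submodule (ZMod p) W, (∀ h, ∀ x ∈ U, ρ h x ∈ U) → U = ⊥ ∨ U = ⊤
  · exact hasNaturalPlane_of_irreducible hp2 hgen ρ ha hb hirr hnp
  push Not at hirr
  obtain ⟨U, hU, hbot, htop⟩ := hirr
  by_cases h1 : PImage p (resHom ρ U hU)
  · by_cases h2 : PImage p (quotHom ρ U hU)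
    · refine absurd (fun h => ?_) hnp
      obtain ⟨k, hk⟩ := h1 h
      obtain ⟨l, hl⟩ := h2 (h ^ p ^ k)
      refine ⟨k + l + 1, ?_⟩
      set g := (h ^ p ^ k) ^ p ^ l with hg
      have hres : ∀ x ∈ U, ρ g x = x := by
        intro x hx
        have : resHom ρ U hU g = 1 := by rw [hg, map_pow, hk, one_pow]
        exact congrArg Subtype.val (LinearMap.congr_fun this ⟨x, hx⟩)
      have hquot : ∀ x, ρ g x - x ∈ U := fun x => by
        have := LinearMap.congr_fun hl (Submodule.Quotient.mk x)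
        rw [← Submodule.Quotient.eq]
        simpa [quotHom] using this
      have hq : (ρ g - 1) * (ρ g - 1) = 0 := LinearMap.ext fun x => by
        simp only [Module.End.mul_apply, LinearMap.sub_apply, Module.End.one_apply,
          LinearMap.zero_apply]
        rw [hres _ (hquot x), sub_self]
      have := pow_eq_one_of_quadratic (K := ZMod p) (p := p) hq
      rw [← map_pow, hg] at this
      rw [pow_succ, pow_add, pow_mul, pow_mul]
      exact this
    · have hlt : Module.finrank (ZMod p) (W ⧸ U) < n := by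
        have h3 := U.finrank_quotient_add_finrank
        have : 0 < Module.finrank (ZMod p) U := by
          rw [Nat.pos_iff_ne_zero, Ne, Submodule.finrank_eq_zero]; exact hbot
        omega
      have : Finite (W ⧸ U) := Finite.of_surjective _ U.mkQ_surjective
      obtain ⟨X, α, W₁, c, hα, hc, he⟩ :=
        ih _ hlt _ rfl _ (quadratic_quot ha) (quadratic_quot hb) h2
      let m : W₁.comap U.mkQ →ₗ[ZMod p] W₁ :=
        (U.mkQ.comp (W₁.comap U.mkQ).subtype).codRestrict W₁ fun z => z.2
      have hm : Function.Surjective m := by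
        rintro ⟨z, hz⟩
        obtain ⟨w, rfl⟩ := U.mkQ_surjective z
        exact ⟨⟨w, hz⟩, rfl⟩
      refine ⟨X, α, W₁.comap U.mkQ, c.comp m, hα, hc.comp hm, fun x z => ?_⟩
      obtain ⟨h, hh⟩ := he x (m z)
      exact ⟨h, hh⟩
  · have hlt : Module.finrank (ZMod p) U < n := hn ▸ Submodule.finrank_lt htop
    obtain ⟨X, α, W₁, c, hα, hc, he⟩ := ih _ hlt _ rfl _ (quadratic_res ha) (quadratic_res hb) h1
    let ι := W₁.equivMapOfInjective U.subtype U.injective_subtype
    refine ⟨X, α, W₁.map U.subtype, c.comp ι.symm.toLinearMap, hα, hc.comp ι.symm.surjective,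
      fun x z => ?_⟩
    obtain ⟨w, rfl⟩ := ι.surjective z
    obtain ⟨h, hh⟩ := he x w
    refine ⟨⟨_, h, rfl⟩, ?_⟩
    rw [LinearMap.comp_apply, LinearMap.comp_apply, LinearEquiv.coe_coe,
      LinearEquiv.symm_apply_apply, ← hh]
    congr 1
    exact ι.symm_apply_eq.2 (Subtype.ext rfl)

end Cfsg.Agent.Quadratic
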