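import Cfsg.Agent.Lib.Quadratic.NaturalSection

/-!
# A natural plane through a fixed vector, normalized at a Sylow subgroup

If `H = ⟨a, b⟩` acts quadratically on a finite `ZMod p`-space, `a` fixes `z`, and the action on the
orbit of `z` is not that of a `p`-group, then for every Sylow subgroup `T` of `H` containing `a` some
`X ≤ N_H(T)` maps onto the upper triangular subgroup of `SL(2, p)` compatibly with an `X`-invariant
subspace containing `z` mapping onto `(ZMod p)²` with `z ↦ (1, 0)` (`exists_torus_plane`).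
-/

set_option autoImplicit false
set_option linter.style.haveILetI false

namespace Cfsg.Agent.Quadratic

open scoped MatrixGroups
open Subgroup PSL2

universe v w

variable {p : ℕ} [hp : Fact p.Prime] {H : Type w} [Group H]

/-- `X ≤ H` normalizing `T` maps onto the upper triangular group, compatibly with a map from a
subspace containing `z` onto `(ZMod p)²` sending `z` to `(1, 0)`. -/
def HasTorusPlane (p : ℕ) [Fact p.Prime] {H : Type w} [Group H] {W : Type v} [AddCommGroup W]
    [Module (ZMod p) W] (ρ : H →* Module.End (ZMod p) W) (T : Subgroup H) (z : W) : Prop :=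
  ∃ (X : Subgroup H) (α : X →* SL(2, ZMod p)) (W₁ : Submodule (ZMod p) W)
    (c : W₁ →ₗ[ZMod p] (Fin 2 → ZMod p)) (hz : z ∈ W₁),
    X ≤ normalizer (T : Set H) ∧ α.range = PSL2.borel (ZMod p) ∧ Function.Surjective c ∧
      c ⟨z, hz⟩ = ![1, 0] ∧
      ∀ (x : X) (u : W₁), ∃ h : ρ (x : H) (u : W) ∈ W₁,
        c ⟨_, h⟩ = Matrix.mulVec (α x : Matrix (Fin 2) (Fin 2) (ZMod p)) (c u)

theorem exists_idempotent_pow {M : Type*} [Monoid M] [Finite M] (C : M) :
    ∃ n, 0 < n ∧ C ^ (n + n) = C ^ n := by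
  obtain ⟨i, j, hij, h⟩ := Finite.exists_ne_map_eq_of_infinite (fun k : ℕ => C ^ k)
  wlog hlt : i < j generalizing i j
  · exact this j i hij.symm h.symm (by omega)
  obtain ⟨d, rfl⟩ : ∃ d, j = i + d := ⟨j - i, by omega⟩
  have hd : 0 < d := by omega
  have hk : ∀ k t, i ≤ t → C ^ (t + d * k) = C ^ t := by
    intro k
    induction k with
    | zero => simp
    | succ k ih =>
      intro t ht
      obtain ⟨s, rfl⟩ : ∃ s, t = i + s := ⟨t - i, by omega⟩
      calc C ^ (i + s + d * (k + 1)) = C ^ (i + d + (s + d * k)) := by congr 1; ring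
        _ = C ^ (i + s + d * k) := by rw [pow_add, ← h, ← pow_add, add_assoc]
        _ = _ := ih _ ht
  exact ⟨d * (i + 1), Nat.mul_pos hd (by omega), hk (i + 1) _ (by nlinarith)⟩

/-- Lifting into the normalizer of a Sylow subgroup. -/
theorem exists_mem_normalizer_map_eq [Finite H] {K : Type*} [Group K] (φ : H →* K) (T : Sylow p H)
    (h : H) (hh : ∀ t ∈ (T : Subgroup H), ∃ t' ∈ (T : Subgroup H), φ (h * t * h⁻¹) = φ t') :
    ∃ h' ∈ normalizer ((T : Subgroup H) : Set H), φ h' = φ h := by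
  have hle : ((h • T : Sylow p H) : Subgroup H) ≤ φ.ker ⊔ (T : Subgroup H) := by
    intro w hw
    rw [Sylow.coe_subgroup_smul, Subgroup.mem_smul_pointwise_iff_exists] at hw
    obtain ⟨t, ht, rfl⟩ := hw
    obtain ⟨t', ht', e⟩ := hh t ht
    rw [MulAut.smul_def, MulAut.conj_apply, show h * t * h⁻¹ = h * t * h⁻¹ * t'⁻¹ * t' by group]
    exact mul_mem (mem_sup_left (by rw [MonoidHom.mem_ker, map_mul _ _ t'⁻¹, map_inv _ t', e,
      mul_inv_cancel])) (mem_sup_right ht')
  obtain ⟨⟨g, hg⟩, hge⟩ := MulAction.exists_smul_eq ↥(φ.ker ⊔ (T : Subgroup H))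
    (T.subtype le_sup_right) ((h • T).subtype hle)
  rw [Sylow.smul_subtype] at hge
  have hge' : g • T = h • T := Sylow.subtype_injective hge
  obtain ⟨m, hm, t, ht, rfl⟩ := mem_sup_of_normal_left.1 hg
  rw [mul_smul, Sylow.smul_eq_iff_mem_normalizer.2 (le_normalizer ht)] at hge'
  refine ⟨m⁻¹ * h, Sylow.smul_eq_iff_mem_normalizer.1 ?_, by
    rw [map_mul, map_inv, MonoidHom.mem_ker.1 hm, inv_one, one_mul]⟩
  rw [mul_smul, ← hge', inv_smul_smul]

section Nilpotent

variable {W : Type v} [AddCommGroup W] [Module (ZMod p) W]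

/-- Where `RS + SR` is nilpotent a quadratic pair acts as a `p`-group. -/
theorem exists_pow_apply_eq [Finite H] {a b : H} (hgen : closure ({a, b} : Set H) = ⊤)
    (ρ : H →* Module.End (ZMod p) W)
    (ha : (ρ a - 1) * (ρ a - 1) = 0) (hb : (ρ b - 1) * (ρ b - 1) = 0) (n : ℕ) (h : H) :
    ∃ k : ℕ, ∀ u : W,
      (((ρ a - 1) * (ρ b - 1) + (ρ b - 1) * (ρ a - 1)) ^ n) u = 0 → ρ (h ^ p ^ k) u = u := by
  rcases subsingleton_or_nontrivial W with hW | hW
  · exact ⟨0, fun _ _ => Subsingleton.elim _ _⟩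
  set R := ρ a - 1 with hR
  set S := ρ b - 1 with hS
  set C := R * S + S * R with hC
  have hRC : Commute C R := by
    show C * R = R * C
    rw [hC, add_mul, mul_add, mul_assoc S, ha, mul_zero, add_zero, ← mul_assoc R R, ha, zero_mul,
      zero_add, mul_assoc]
  have hSC : Commute C S := by
    show C * S = S * C
    rw [hC, add_mul, mul_add, mul_assoc R, hb, mul_zero, zero_add, ← mul_assoc S S, hb, zero_mul,
      add_zero, mul_assoc]
  obtain ⟨F, hF0, hFs⟩ : ∃ F : ℕ → Submodule (ZMod p) W, F 0 = LinearMap.ker (C ^ n) ∧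
      ∀ j, F (j + 1) = (F j).map R ⊔ (F j).map S :=
    ⟨fun j => Nat.rec (LinearMap.ker (C ^ n)) (fun _ U => U.map R ⊔ U.map S) j, rfl, fun _ => rfl⟩
  have hcomm : ∀ T : Module.End (ZMod p) W, Commute C T → ∀ u, (C ^ n) (T u) = T ((C ^ n) u) :=
    fun T hT u => by rw [← Module.End.mul_apply, (hT.pow_left n).eq, Module.End.mul_apply]
  have hdec : ∀ j, F (j + 1) ≤ F j := by
    intro j
    induction j with
    | zero =>
      rw [hFs, hF0]
      refine sup_le ?_ ?_ <;> rintro _ ⟨u, hu, rfl⟩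
      · show (C ^ n) (R u) = 0
        rw [hcomm R hRC, show (C ^ n) u = 0 from hu, map_zero]
      · show (C ^ n) (S u) = 0
        rw [hcomm S hSC, show (C ^ n) u = 0 from hu, map_zero]
    | succ j ih =>
      rw [hFs (j + 1)]
      conv_rhs => rw [hFs j]
      exact sup_le_sup (Submodule.map_mono ih) (Submodule.map_mono ih)
  have hmono : ∀ i j, i ≤ j → F j ≤ F i := by
    intro i j hij
    induction hij with
    | refl => exact le_rfl
    | step _ ih => exact (hdec _).trans ih
  have hRj : ∀ j, (F j).map R ≤ F (j + 1) := fun j => by rw [hFs]; exact le_sup_left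
  have hSj : ∀ j, (F j).map S ≤ F (j + 1) := fun j => by rw [hFs]; exact le_sup_right
  have h3 : ∀ j, F (j + 3) ≤ (F j).map C := by
    intro j
    induction j with
    | zero =>
      have key : ∀ T : Module.End (ZMod p) W, (T = R ∨ T = S) → ∀ u ∈ F 0,
          R (S (T u)) ∈ (F 0).map C ∧ S (R (T u)) ∈ (F 0).map C := by
        rintro T (rfl | rfl) u hu
        · refine ⟨⟨R u, hdec 0 (hRj 0 (Submodule.mem_map_of_mem hu)), ?_⟩, ?_⟩
          · rw [hC]
            simp only [LinearMap.add_apply, Module.End.mul_apply]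
            rw [show R (R u) = 0 from LinearMap.congr_fun ha u, map_zero, add_zero]
          · rw [show R (R u) = 0 from LinearMap.congr_fun ha u, map_zero]
            exact zero_mem _
        · refine ⟨?_, ⟨S u, hdec 0 (hSj 0 (Submodule.mem_map_of_mem hu)), ?_⟩⟩
          · rw [show S (S u) = 0 from LinearMap.congr_fun hb u, map_zero]
            exact zero_mem _
          · rw [hC]
            simp only [LinearMap.add_apply, Module.End.mul_apply]
            rw [show S (S u) = 0 from LinearMap.congr_fun hb u, map_zero, zero_add]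
      show F 3 ≤ _
      have e1 := hFs 0
      have e2 := hFs 1
      have e3 := hFs 2
      simp only [Nat.reduceAdd] at e1 e2 e3 ⊢
      rw [e3, e2, e1]
      simp only [Submodule.map_sup, ← Submodule.map_comp]
      refine sup_le (sup_le (sup_le ?_ ?_) (sup_le ?_ ?_)) (sup_le (sup_le ?_ ?_) (sup_le ?_ ?_)) <;>
        rintro _ ⟨u, hu, rfl⟩
      · simp only [LinearMap.comp_apply]
        rw [show R (R (R u)) = 0 from LinearMap.congr_fun ha (R u)]
        exact zero_mem _
      · simp only [LinearMap.comp_apply]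
        rw [show R (R (S u)) = 0 from LinearMap.congr_fun ha (S u)]
        exact zero_mem _
      · exact (key R (Or.inl rfl) u hu).1
      · exact (key S (Or.inr rfl) u hu).1
      · exact (key R (Or.inl rfl) u hu).2
      · exact (key S (Or.inr rfl) u hu).2
      · simp only [LinearMap.comp_apply]
        rw [show S (S (R u)) = 0 from LinearMap.congr_fun hb (R u)]
        exact zero_mem _
      · simp only [LinearMap.comp_apply]
        rw [show S (S (S u)) = 0 from LinearMap.congr_fun hb (S u)]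
        exact zero_mem _
    | succ j ih =>
      show F (j + 3 + 1) ≤ _
      rw [hFs (j + 3), hFs j, Submodule.map_sup]
      apply sup_le_sup
      · refine le_trans (Submodule.map_mono ih) (le_of_eq ?_)
        rw [← Submodule.map_comp, ← Submodule.map_comp]
        exact congrArg (fun T => Submodule.map T (F j)) hRC.eq.symm
      · refine le_trans (Submodule.map_mono ih) (le_of_eq ?_)
        rw [← Submodule.map_comp, ← Submodule.map_comp]
        exact congrArg (fun T => Submodule.map T (F j)) hSC.eq.symm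
  have hn : ∀ i, F (3 * i) ≤ (F 0).map (C ^ i) := by
    intro i
    induction i with
    | zero => intro u hu; exact ⟨u, hu, rfl⟩
    | succ i ih =>
      refine (h3 (3 * i)).trans ((Submodule.map_mono ih).trans ?_)
      rw [← Submodule.map_comp, pow_succ']
      exact le_rfl
  have hbot : ∀ u ∈ F (3 * n), u = 0 := by
    intro u hu
    obtain ⟨v, hv, rfl⟩ := hn n hu
    rw [hF0] at hv
    exact hv
  have hstep : ∀ g : H, ∀ j, ∀ u ∈ F j, ρ g u ∈ F j ∧ (ρ g - 1) u ∈ F (j + 1) := by
    have hmul : ∀ g g' : H, (∀ j, ∀ u ∈ F j, ρ g u ∈ F j ∧ (ρ g - 1) u ∈ F (j + 1)) →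
        (∀ j, ∀ u ∈ F j, ρ g' u ∈ F j ∧ (ρ g' - 1) u ∈ F (j + 1)) →
        ∀ j, ∀ u ∈ F j, ρ (g * g') u ∈ F j ∧ (ρ (g * g') - 1) u ∈ F (j + 1) := by
      intro g g' h1 h2 j u hu
      have e := (h2 j u hu).1
      refine ⟨by rw [map_mul]; exact (h1 j _ e).1, ?_⟩
      rw [map_mul, show (ρ g * ρ g' - 1) u = (ρ g - 1) (ρ g' u) + (ρ g' - 1) u by simp]
      exact add_mem (h1 j _ e).2 (h2 j u hu).2
    have hone : ∀ j, ∀ u ∈ F j, ρ (1 : H) u ∈ F j ∧ (ρ (1 : H) - 1) u ∈ F (j + 1) := by
      intro j u hu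
      rw [map_one]
      exact ⟨hu, by simp⟩
    intro g
    induction (hgen ▸ mem_top g : g ∈ closure ({a, b} : Set H)) using Subgroup.closure_induction with
    | mem g hg =>
      intro j u hu
      rcases hg with rfl | rfl
      · have := hRj j (Submodule.mem_map_of_mem hu)
        refine ⟨?_, this⟩
        rw [show ρ g u = R u + u by simp [hR]]
        exact add_mem (hdec j this) hu
      · have := hSj j (Submodule.mem_map_of_mem hu)
        refine ⟨?_, this⟩
        rw [show ρ g u = S u + u by simp [hS]]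
        exact add_mem (hdec j this) hu
    | one => exact hone
    | mul g g' _ _ h1 h2 => exact hmul g g' h1 h2
    | inv g _ h1 =>
      have hpow : ∀ k : ℕ, ∀ j, ∀ u ∈ F j,
          ρ (g ^ k) u ∈ F j ∧ (ρ (g ^ k) - 1) u ∈ F (j + 1) := by
        intro k
        induction k with
        | zero => simpa using hone
        | succ k ih => rw [pow_succ]; exact hmul _ _ ih h1
      have e : g ^ (orderOf g - 1) = g⁻¹ := eq_inv_of_mul_eq_one_left (by
        rw [← pow_succ, Nat.sub_add_cancel (orderOf_pos g), pow_orderOf_eq_one])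
      rw [← e]
      exact hpow _
  have hiter : ∀ i, ∀ u ∈ F 0, ((ρ h - 1) ^ i) u ∈ F i := by
    intro i
    induction i with
    | zero => intro u hu; simpa using hu
    | succ i ih => intro u hu; rw [pow_succ', Module.End.mul_apply]; exact (hstep h i _ (ih u hu)).2
  obtain ⟨k, hk⟩ : ∃ k, 3 * n ≤ p ^ k := ⟨3 * n, (Nat.lt_pow_self hp.out.one_lt).le⟩
  refine ⟨k, fun u hu => ?_⟩
  have : CharP (Module.End (ZMod p) W) p :=
    charP_of_injective_algebraMap (algebraMap (ZMod p) (Module.End (ZMod p) W)).injective p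
  have e := sub_pow_char_pow_of_commute p k (Commute.one_right (ρ h))
  rw [one_pow] at e
  have h0 := hbot _ (hmono _ _ hk (hiter (p ^ k) u (hF0 ▸ hu)))
  rw [e, LinearMap.sub_apply, Module.End.one_apply, sub_eq_zero] at h0
  rw [map_pow]
  exact h0

end Nilpotent

section Field

variable {E : Type*} [Field E] [CharP E p]

/-- A `p`-group in `SL(2, E)` containing `uu s`, `s ≠ 0`, is upper unitriangular. -/
theorem le_unip_of_isPGroup (hp2 : p ≠ 2) {Q : Subgroup SL(2, E)} [Finite Q] (hQ : IsPGroup p Q)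
    {s : E} (hs : s ≠ 0) (hmem : uu s ∈ Q) : Q ≤ unip E := by
  have h2 : (2 : E) ≠ 0 := Ring.two_ne_zero (by rwa [ringChar.eq E p])
  have : Nontrivial Q := ⟨⟨⟨uu s, hmem⟩, 1, fun h => hs (by simpa using congrArg Subtype.val h)⟩⟩
  have hcen := hQ.center_nontrivial
  obtain ⟨⟨g, hg⟩, hg1⟩ := exists_ne (1 : Subgroup.center Q)
  have hgc : ∀ u ∈ Q, (g : SL(2, E)) * u = u * g := fun u hu =>
    congrArg Subtype.val (Subgroup.mem_center_iff.1 hg ⟨u, hu⟩).symm
  -- `g` commutes with `uu s`, so it is `± uu t`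
  have hcent : ∀ (y : SL(2, E)) (t : E), t ≠ 0 → y * uu t = uu t * y → y 1 0 = 0 ∧ y 0 0 = y 1 1 := by
    intro y t ht hy
    have e0 := congrArg (fun x : SL(2, E) => x 0 0) hy
    have e1 := congrArg (fun x : SL(2, E) => x 0 1) hy
    simp only [mul00, mul01, uu00, uu01, uu10, uu11] at e0 e1
    have h10 : t * y 1 0 = 0 := by linear_combination -e0
    have h01 : t * (y 0 0 - y 1 1) = 0 := by linear_combination e1
    exact ⟨(mul_eq_zero.1 h10).resolve_left ht, sub_eq_zero.1 ((mul_eq_zero.1 h01).resolve_left ht)⟩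
  have hunip : ∀ y ∈ Q, y 1 0 = 0 → y 0 0 = y 1 1 → y ∈ unip E := by
    intro y hy h10 h00
    obtain ⟨k, hk⟩ := hQ ⟨y, hy⟩
    have hk' : y ^ p ^ k = 1 := congrArg Subtype.val hk
    have hd := det_eq y
    rw [h10, mul_zero, sub_zero, ← h00, mul_self_eq_one_iff] at hd
    refine mem_unip_iff_entries.2 ⟨h10, hd.resolve_right fun hneg => ?_⟩
    have e : y = -uu (-(y 0 1)) := by
      apply ext2 <;> simp [hneg, h10, ← h00]
    have hodd : Odd (p ^ k) := (hp.out.odd_of_ne_two hp2).pow
    rw [e, PSL2.neg_eq_neg_one_mul, (commute_neg_one _).mul_pow, hodd.neg_one_pow, uu_pow] at hk'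
    have h00' := congrArg (fun x : SL(2, E) => x 0 0) hk'
    simp at h00'
    exact h2 (by linear_combination -h00')
  obtain ⟨h10, h00⟩ := hcent g s hs (hgc _ hmem)
  obtain ⟨t, ht⟩ := mem_unip.1 (hunip g g.2 h10 h00)
  have ht0 : t ≠ 0 := by
    rintro rfl
    exact hg1 (Subtype.ext (Subtype.ext (by rw [← ht, uu_zero]; rfl)))
  intro y hy
  obtain ⟨a, b⟩ := hcent y t ht0 (by rw [ht]; exact (hgc y hy).symm)
  exact hunip y hy a b

set_option maxHeartbeats 1600000 in
theorem hasTorusPlane_of_field (hp2 : p ≠ 2) [Finite H] [Fintype E] {a b : H}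
    (hgen : closure ({a, b} : Set H) = ⊤) {W : Type v} [AddCommGroup W] [Module (ZMod p) W]
    (ρ : H →* Module.End (ZMod p) W) [Algebra (ZMod p) E]
    [Module E W] [IsScalarTower (ZMod p) E W] {lam : E} (hlam : lam ≠ 0) {x y : W}
    (hbij : Function.Bijective fun z : Fin 2 → E => z 0 • x + z 1 • y)
    (ha : ∀ r s : E, ρ a (r • x + s • y) = (r + lam * s) • x + s • y)
    (hb : ∀ r s : E, ρ b (r • x + s • y) = r • x + (r + s) • y)
    (T : Sylow p H) (haT : a ∈ T) : HasTorusPlane p ρ (T : Subgroup H) x := by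
  set Φ : (Fin 2 → E) → W := fun z => z 0 • x + z 1 • y with hΦ
  have hmul : ∀ (g : SL(2, E)) (z : Fin 2 → E), Matrix.mulVec (g : Matrix (Fin 2) (Fin 2) E) z =
      ![g 0 0 * z 0 + g 0 1 * z 1, g 1 0 * z 0 + g 1 1 * z 1] := fun g z => by
    ext i; fin_cases i <;> simp [Matrix.mulVec, dotProduct, Fin.sum_univ_two]
  have hex : ∀ h : H, ∃ g : SL(2, E), ∀ z,
      ρ h (Φ z) = Φ (Matrix.mulVec (g : Matrix (Fin 2) (Fin 2) E) z) := by
    let S : Subgroup H :=
      { carrier := {h | ∃ g : SL(2, E), ∀ z,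
          ρ h (Φ z) = Φ (Matrix.mulVec (g : Matrix (Fin 2) (Fin 2) E) z)}
        one_mem' := ⟨1, fun z => by simp⟩
        mul_mem' := by
          rintro h k ⟨g, hg⟩ ⟨g', hg'⟩
          exact ⟨g * g', fun z => by
            rw [map_mul, Module.End.mul_apply, hg', hg, Matrix.mulVec_mulVec,
              Matrix.SpecialLinearGroup.coe_mul]⟩
        inv_mem' := by
          rintro h ⟨g, hg⟩
          refine ⟨g⁻¹, fun z => ?_⟩
          have e := hg (Matrix.mulVec ((g⁻¹ : SL(2, E)) : Matrix (Fin 2) (Fin 2) E) z)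
          rw [Matrix.mulVec_mulVec, ← Matrix.SpecialLinearGroup.coe_mul, mul_inv_cancel,
            Matrix.SpecialLinearGroup.coe_one, Matrix.one_mulVec] at e
          rw [← e, ← Module.End.mul_apply, ← map_mul, inv_mul_cancel, map_one, Module.End.one_apply] }
    have haS : a ∈ S := ⟨uu lam, fun z => by
      rw [hmul]; simp only [hΦ, uu00, uu01, uu10, uu11, Matrix.cons_val_zero, Matrix.cons_val_one]
      rw [ha]; simp⟩
    have hbS : b ∈ S := ⟨ll 1, fun z => by
      rw [hmul]; simp only [hΦ, ll00, ll01, ll10, ll11, Matrix.cons_val_zero, Matrix.cons_val_one]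
      rw [hb]; simp⟩
    intro h
    have : closure ({a, b} : Set H) ≤ S := by
      rw [closure_le]; rintro _ (rfl | rfl) <;> assumption
    exact this (hgen ▸ mem_top h)
  choose f hf using hex
  have huniq : ∀ (h : H) (g : SL(2, E)),
      (∀ z, ρ h (Φ z) = Φ (Matrix.mulVec (g : Matrix (Fin 2) (Fin 2) E) z)) → f h = g := fun h g hg => by
    have e : ∀ z, Matrix.mulVec (f h : Matrix (Fin 2) (Fin 2) E) z =
        Matrix.mulVec (g : Matrix (Fin 2) (Fin 2) E) z := fun z => hbij.1 ((hf h z).symm.trans (hg z))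
    exact Subtype.ext (Matrix.ext_of_mulVec_single fun i => e _)
  let φ : H →* SL(2, E) :=
    { toFun := f
      map_one' := huniq _ _ fun z => by simp
      map_mul' := fun h k => huniq _ _ fun z => by
        rw [map_mul, Module.End.mul_apply, hf k, hf h, Matrix.mulVec_mulVec,
          Matrix.SpecialLinearGroup.coe_mul] }
  have hφa : φ a = uu lam := huniq _ _ fun z => by
    rw [hmul]; simp only [hΦ, uu00, uu01, uu10, uu11, Matrix.cons_val_zero, Matrix.cons_val_one]
    rw [ha]; simp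
  have hφb : φ b = ll 1 := huniq _ _ fun z => by
    rw [hmul]; simp only [hΦ, ll00, ll01, ll10, ll11, Matrix.cons_val_zero, Matrix.cons_val_one]
    rw [hb]; simp
  have hf' : ∀ h z, ρ h (Φ z) = Φ (Matrix.mulVec (φ h : Matrix (Fin 2) (Fin 2) E) z) := hf
  have : Finite φ.range := Finite.of_surjective _ φ.rangeRestrict_surjective
  set TR := T.mapSurjective φ.rangeRestrict_surjective with hTR
  have hTRmem : ∀ u : φ.range, u ∈ (TR : Subgroup φ.range) ↔ ∃ t ∈ (T : Subgroup H), φ t = u := by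
    intro u
    rw [hTR, Sylow.coe_mapSurjective]
    constructor
    · rintro ⟨t, ht, rfl⟩; exact ⟨t, ht, rfl⟩
    · rintro ⟨t, ht, e⟩; exact ⟨t, ht, Subtype.ext e⟩
  -- a `p`-subgroup of the image through `φ a` is upper unitriangular
  have hunip : ∀ U : Subgroup φ.range, IsPGroup p U → φ.rangeRestrict a ∈ U →
      ∀ u ∈ U, (u : SL(2, E)) ∈ unip E := by
    intro U hU haU u hu
    have : Finite (U.map φ.range.subtype) :=
      Finite.of_surjective _ (φ.range.subtype.subgroupMap_surjective U)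
    exact le_unip_of_isPGroup hp2 (hU.map φ.range.subtype) hlam
      ⟨φ.rangeRestrict a, haU, hφa⟩ ⟨u, hu, rfl⟩
  have haTR : φ.rangeRestrict a ∈ (TR : Subgroup φ.range) := (hTRmem _).2 ⟨a, haT, rfl⟩
  have hS : 1 < Nat.card (Sylow p φ.range) := by
    by_contra hle
    have : Subsingleton (Sylow p φ.range) := Finite.card_le_one_iff_subsingleton.1 (by omega)
    have hq : IsPGroup p (zpowers (φ.rangeRestrict b)) := by
      rintro ⟨z, k, rfl⟩
      refine ⟨1, Subtype.ext ?_⟩
      rw [pow_one, Subgroup.coe_pow, ← zpow_natCast, ← zpow_mul, mul_comm, zpow_mul, zpow_natCast,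
        show φ.rangeRestrict b ^ p = 1 from Subtype.ext (by
          show φ b ^ p = 1
          rw [hφb, ll_pow, CharP.cast_eq_zero E p, zero_mul, ll_zero]), one_zpow]
      rfl
    obtain ⟨Q, hQ⟩ := hq.exists_le_sylow
    rw [Subsingleton.elim Q TR] at hQ
    have := hunip _ TR.isPGroup' haTR _ (hQ (mem_zpowers _))
    rw [MonoidHom.coe_rangeRestrict, hφb] at this
    simpa using (mem_unip_iff_entries.1 this).1
  obtain ⟨Y, hY, ⟨e⟩⟩ := PSL2.exists_subgroup_mulEquiv hp2 φ.range hS
  set θ₀ : SL(2, ZMod p) →* SL(2, E) := Y.subtype.comp e.symm.toMonoidHom with hθ₀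
  have hθ₀r : ∀ g, θ₀ g ∈ φ.range := fun g => hY (e.symm g).2
  have hθ₀i : Function.Injective θ₀ := Y.subtype_injective.comp e.symm.injective
  -- move `θ₀ (uu 1)` into the image of `T`
  obtain ⟨k, hk⟩ : ∃ k : H, φ k * θ₀ (uu 1) * (φ k)⁻¹ ∈ unip E := by
    have hq : IsPGroup p (zpowers (⟨_, hθ₀r (uu 1)⟩ : φ.range)) := by
      rintro ⟨z, k, rfl⟩
      refine ⟨1, Subtype.ext ?_⟩
      rw [pow_one, Subgroup.coe_pow, ← zpow_natCast, ← zpow_mul, mul_comm, zpow_mul, zpow_natCast,
        show (⟨_, hθ₀r (uu 1)⟩ : φ.range) ^ p = 1 from Subtype.ext (by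
          show θ₀ (uu 1) ^ p = 1
          rw [← map_pow, uu_pow, CharP.cast_eq_zero (ZMod p) p, zero_mul, uu_zero, map_one]),
        one_zpow]
      rfl
    obtain ⟨Q, hQ⟩ := hq.exists_le_sylow
    obtain ⟨g, hg⟩ := MulAction.exists_smul_eq φ.range Q TR
    obtain ⟨_, k, rfl⟩ := g
    refine ⟨k, ?_⟩
    have hm : MulAut.conj (⟨φ k, k, rfl⟩ : φ.range) ⟨_, hθ₀r (uu 1)⟩ ∈ (TR : Subgroup φ.range) := by
      rw [← hg, Sylow.coe_subgroup_smul]
      exact Subgroup.smul_mem_pointwise_smul _ _ _ (hQ (mem_zpowers _))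
    exact hunip _ TR.isPGroup' haTR _ hm
  set θ : SL(2, ZMod p) →* SL(2, E) := (MulAut.conj (φ k)).toMonoidHom.comp θ₀ with hθdef
  have hθr : ∀ g, θ g ∈ φ.range := fun g =>
    mul_mem (mul_mem ⟨k, rfl⟩ (hθ₀r g)) (inv_mem ⟨k, rfl⟩)
  have hθ : Function.Injective θ := (MulAut.conj (φ k)).injective.comp hθ₀i
  obtain ⟨c, s, r, hsr, hθc⟩ := exists_conj_twist hp2 θ hθ
  have hs : s ≠ 0 := left_ne_zero_of_mul_eq_one hsr
  have hc10 : c 1 0 = 0 := by
    have h1 : c * uu s * c⁻¹ ∈ unip E := by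
      have := hθc (uu 1)
      rw [twist_uu, ZMod.val_one, pow_one] at this
      rw [← this]
      exact hk
    have h2 := (mem_unip_iff_entries.1 h1).1
    simp only [mul10, mul11, inv00, inv10, uu00, uu01, uu10, uu11] at h2
    have h3 : s * (c 1 0 * c 1 0) = 0 := by linear_combination -h2
    exact mul_self_eq_zero.1 ((mul_eq_zero.1 h3).resolve_left hs)
  have hc00 : c 0 0 ≠ 0 := by
    intro h0
    have := det_eq c
    rw [h0, hc10] at this
    simp at this
  have hθb : ∀ g ∈ PSL2.borel (ZMod p), θ g ∈ PSL2.borel E := by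
    intro g hg
    rw [hθc]
    refine mul_mem (mul_mem hc10 ?_) (inv_mem (show c ∈ PSL2.borel E from hc10))
    show twist s r hsr g 1 0 = 0
    simp [mem_borel.1 hg]
  -- lifting into the normalizer of `T`
  have hlift : ∀ u ∈ φ.range, u ∈ PSL2.borel E → ∃ h ∈ normalizer ((T : Subgroup H) : Set H), φ h = u := by
    rintro _ ⟨h, rfl⟩ hu
    have hle : (TR : Subgroup φ.range) ≤ (unip E).subgroupOf φ.range :=
      fun u hu => hunip _ TR.isPGroup' haTR u hu
    have hpU : IsPGroup p ((unip E).subgroupOf φ.range) := by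
      intro u
      obtain ⟨t, ht⟩ := mem_unip.1 (show ((u : φ.range) : SL(2, E)) ∈ unip E from u.2)
      refine ⟨1, Subtype.ext (Subtype.ext ?_)⟩
      rw [pow_one, Subgroup.coe_pow, Subgroup.coe_pow, ← ht, uu_pow, CharP.cast_eq_zero E p,
        zero_mul, uu_zero]
      rfl
    have heq := TR.is_maximal' hpU hle
    refine exists_mem_normalizer_map_eq φ T h fun t ht => ?_
    have hu' : φ h * φ t * (φ h)⁻¹ ∈ unip E :=
      unip_conj_mem hu (hunip _ TR.isPGroup' haTR (φ.rangeRestrict t) ((hTRmem _).2 ⟨t, ht, rfl⟩))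
    have hmem : φ.rangeRestrict (h * t * h⁻¹) ∈ (TR : Subgroup φ.range) := by
      rw [← heq]
      show φ (h * t * h⁻¹) ∈ unip E
      rwa [map_mul, map_mul, map_inv]
    obtain ⟨t', ht', e'⟩ := (hTRmem _).1 hmem
    exact ⟨t', ht', e'.symm⟩
  -- the plane
  set η : E := (s * c 0 0)⁻¹ with hη
  have hη0 : η ≠ 0 := inv_ne_zero (mul_ne_zero hs hc00)
  let Ψ : (Fin 2 → ZMod p) →ₗ[ZMod p] W :=
    { toFun := fun z => Φ (η • Matrix.mulVec (c : Matrix (Fin 2) (Fin 2) E)
        ![s * algebraMap _ _ (z 0), algebraMap _ _ (z 1)])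
      map_add' := fun z z' => by
        simp only [hΦ, ← add_add_add_comm, ← add_smul, hmul, Matrix.cons_val_zero, Matrix.cons_val_one,
          Pi.add_apply, Pi.smul_apply, smul_eq_mul, map_add]
        ring_nf
      map_smul' := fun k z => by
        simp only [hΦ, hmul, Matrix.cons_val_zero, Matrix.cons_val_one, Pi.smul_apply, smul_eq_mul,
          map_mul, RingHom.id_apply, smul_add, ← algebraMap_smul E k, smul_smul]
        ring_nf }
  have hΨi : Function.Injective Ψ := by
    intro z z' h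
    have h0 := hbij.1 h
    have h1 := congrArg (Matrix.mulVec ((c⁻¹ : SL(2, E)) : Matrix (Fin 2) (Fin 2) E))
      (smul_right_injective (Fin 2 → E) hη0 h0)
    rw [Matrix.mulVec_mulVec, Matrix.mulVec_mulVec, ← Matrix.SpecialLinearGroup.coe_mul,
      inv_mul_cancel, Matrix.SpecialLinearGroup.coe_one, Matrix.one_mulVec, Matrix.one_mulVec] at h1
    ext i
    fin_cases i
    · exact (algebraMap (ZMod p) E).injective (mul_left_cancel₀ hs (congrFun h1 0))
    · exact (algebraMap (ZMod p) E).injective (congrFun h1 1)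
  have hΨ1 : Ψ ![1, 0] = x := by
    show Φ _ = x
    simp only [hΦ, hmul, Matrix.cons_val_zero, Matrix.cons_val_one, Pi.smul_apply, smul_eq_mul,
      map_one, map_zero, hc10]
    rw [show η * (c 0 0 * (s * 1) + c 0 1 * 0) = 1 by rw [hη]; field_simp; ring]
    simp
  let X : Subgroup H :=
    normalizer ((T : Subgroup H) : Set H) ⊓ ((PSL2.borel (ZMod p)).map θ).comap φ
  let ι := LinearEquiv.ofInjective Ψ hΨi
  let eθ := MonoidHom.ofInjective hθ
  let α : X →* SL(2, ZMod p) :=
    eθ.symm.toMonoidHom.comp ((φ.comp X.subtype).codRestrict θ.range fun h => by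
      obtain ⟨g, -, hg⟩ := h.2.2
      exact ⟨g, hg⟩)
  have hα : ∀ h : X, φ (h : H) = θ (α h) := fun h => by
    show φ (h : H) = ((eθ (eθ.symm _) : θ.range) : SL(2, E))
    rw [MulEquiv.apply_symm_apply]
    rfl
  refine ⟨X, α, LinearMap.range Ψ, ι.symm.toLinearMap, ⟨_, hΨ1⟩, inf_le_left, ?_,
    ι.symm.surjective, ?_, ?_⟩
  · ext g
    constructor
    · rintro ⟨h, rfl⟩
      obtain ⟨g, hg, hg'⟩ := h.2.2
      rwa [← hθ (hg'.trans (hα h))]
    · intro hg
      obtain ⟨h, hh, hh'⟩ := hlift _ (hθr g) (hθb g hg)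
      exact ⟨⟨h, hh, g, hg, hh'.symm⟩, hθ ((hα _).symm.trans hh')⟩
  · simp only [LinearEquiv.coe_coe, LinearEquiv.symm_apply_eq]
    exact Subtype.ext hΨ1.symm
  intro z w
  obtain ⟨u, rfl⟩ := ι.surjective w
  have hincl : ∀ k : ZMod p, (incl k : E) = algebraMap (ZMod p) E k := fun k => by
    congr 1; exact Subsingleton.elim _ _
  have key : ρ (z : H) (Ψ u) = Ψ (Matrix.mulVec (α z : Matrix (Fin 2) (Fin 2) (ZMod p)) u) := by
    show ρ (z : H) (Φ _) = Φ _
    rw [hf', hα z, hθc, Matrix.mulVec_smul, Matrix.mulVec_mulVec,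
      ← Matrix.SpecialLinearGroup.coe_mul, inv_mul_cancel_right,
      Matrix.SpecialLinearGroup.coe_mul, ← Matrix.mulVec_mulVec]
    congr 2
    congr 1
    ext i
    fin_cases i <;> simp [hincl, Matrix.mulVec, dotProduct, Fin.sum_univ_two]
    · ring
    · linear_combination (algebraMap (ZMod p) E ((α z) 1 0) * algebraMap (ZMod p) E (u 0)) * hsr
  refine ⟨⟨_, key.symm⟩, ?_⟩
  simp only [LinearEquiv.coe_coe, LinearEquiv.symm_apply_apply]
  rw [LinearEquiv.symm_apply_eq]
  exact Subtype.ext key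

end Field

theorem hasTorusPlane_of_irreducible (hp2 : p ≠ 2) [Finite H] {a b : H}
    (hgen : closure ({a, b} : Set H) = ⊤) {W : Type v} [AddCommGroup W] [Module (ZMod p) W]
    [Finite W] (ρ : H →* Module.End (ZMod p) W)
    (ha : (ρ a - 1) * (ρ a - 1) = 0) (hb : (ρ b - 1) * (ρ b - 1) = 0)
    (hirr : ∀ U : Submodule (ZMod p) W, (∀ h, ∀ z ∈ U, ρ h z ∈ U) → U = ⊥ ∨ U = ⊤)
    (hC0 : (ρ a - 1) * (ρ b - 1) + (ρ b - 1) * (ρ a - 1) ≠ 0)
    {v : W} (hv0 : v ≠ 0) (hav : ρ a v = v)
    (T : Sylow p H) (haT : a ∈ T) : HasTorusPlane p ρ (T : Subgroup H) v := by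
  classical
  set R := ρ a - 1 with hR
  set S := ρ b - 1 with hS
  set C := R * S + S * R with hC
  have hRC : C * R = R * C := by
    rw [hC, add_mul, mul_add, mul_assoc S, ha, mul_zero, add_zero, ← mul_assoc R R, ha, zero_mul,
      zero_add, mul_assoc]
  have hSC : C * S = S * C := by
    rw [hC, add_mul, mul_add, mul_assoc R, hb, mul_zero, zero_add, ← mul_assoc S S, hb, zero_mul,
      add_zero, mul_assoc]
  set E := Algebra.adjoin (ZMod p) ({C} : Set (Module.End (ZMod p) W)) with hE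
  have hcent : ∀ T ∈ E, ∀ T', C * T' = T' * C → T * T' = T' * T := fun T hT T' hT' =>
    have : T ∈ Subalgebra.centralizer (ZMod p) {T'} :=
      Algebra.adjoin_le (by
        rintro _ rfl
        exact (Subalgebra.mem_centralizer_iff (ZMod p)).2 (by rintro _ rfl; exact hT'.symm)) hT
    ((Subalgebra.mem_centralizer_iff (ZMod p)).1 this T' rfl).symm
  have hcommE : ∀ T ∈ E, ∀ T' ∈ E, T * T' = T' * T := fun T hT T' hT' =>
    hcent T hT T' (hcent T' hT' C rfl).symm
  have hker : ∀ T ∈ E, T = 0 ∨ Function.Injective T := by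
    intro T hT
    have hTa : T * R = R * T := hcent T hT R hRC
    have hTb : T * S = S * T := hcent T hT S hSC
    have hmap : ∀ (g : H), ρ g - 1 = R ∨ ρ g - 1 = S → ∀ z, T z = 0 → T (ρ g z) = 0 := by
      intro g hg z hz
      rw [show ρ g z = (ρ g - 1) z + z by simp, map_add, hz, add_zero]
      rcases hg with h | h <;> rw [h, ← Module.End.mul_apply]
      · rw [hTa, Module.End.mul_apply, hz, map_zero]
      · rw [hTb, Module.End.mul_apply, hz, map_zero]
    rcases hirr (LinearMap.ker T) (forall_invariant hgen ρ _ (fun z hz => hmap a (Or.inl rfl) z hz)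
      (fun z hz => hmap b (Or.inr rfl) z hz)) with h | h
    · exact Or.inr (LinearMap.ker_eq_bot.1 h)
    · exact Or.inl (LinearMap.ker_eq_top.1 h)
  have hRv : R v = 0 := by simp [hR, hav]
  have hRSv : R (S v) = C v := by
    simp [hC, Module.End.mul_apply, hRv]
  have hSSv : S (S v) = 0 := LinearMap.congr_fun hb v
  have : Finite (Module.End (ZMod p) W) := Finite.of_injective _ DFunLike.coe_injective
  have : Finite E := Finite.of_injective _ Subtype.val_injective
  let _ : CommRing E := { (inferInstance : Ring E) with mul_comm := fun x y => Subtype.ext (hcommE _ x.2 _ y.2) }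
  have : Nontrivial E := ⟨⟨0, 1, fun h => hv0 (by
    have := LinearMap.congr_fun (congrArg Subtype.val h) v
    simpa using this.symm)⟩⟩
  have : NoZeroDivisors E := ⟨fun {x y} h => by
    rcases hker x.1 x.2 with hx | hx
    · exact Or.inl (Subtype.ext hx)
    · refine Or.inr (Subtype.ext (LinearMap.ext fun z => hx ?_))
      have := LinearMap.congr_fun (congrArg Subtype.val h) z
      simpa using this⟩
  have : IsDomain E := NoZeroDivisors.to_isDomain E
  let _ : Field E := (Finite.isField_of_domain E).toField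
  let _ : Fintype E := Fintype.ofFinite _
  have : CharP E p := charP_of_injective_algebraMap (algebraMap (ZMod p) E).injective p
  let lam : E := ⟨C, Algebra.self_mem_adjoin_singleton _ _⟩
  have hsmul : ∀ (r : E) (z : W), r • z = (r : Module.End (ZMod p) W) z := fun _ _ => rfl
  have happ : ∀ (r : E) (T : Module.End (ZMod p) W), C * T = T * C → ∀ z,
      T (r • z) = r • T z := fun r T hT z => by
    rw [hsmul, hsmul, ← Module.End.mul_apply, ← hcent r.1 r.2 T hT, Module.End.mul_apply]
  have hA : ∀ r s : E, ρ a (r • v + s • S v) = (r + lam * s) • v + s • S v := by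
    intro r s
    rw [show ρ a (r • v + s • S v) = R (r • v + s • S v) + (r • v + s • S v) by simp [hR],
      map_add, happ r R hRC, happ s R hRC, hRv, hRSv, smul_zero, zero_add, add_smul, mul_comm lam,
      mul_smul, show lam • v = C v from rfl]
    abel
  have hB : ∀ r s : E, ρ b (r • v + s • S v) = r • v + (r + s) • S v := by
    intro r s
    rw [show ρ b (r • v + s • S v) = S (r • v + s • S v) + (r • v + s • S v) by simp [hS],
      map_add, happ r S hSC, happ s S hSC, hSSv, smul_zero, add_zero, add_smul]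
    abel
  let U : Submodule (ZMod p) W :=
    { carrier := {z | ∃ r s : E, r • v + s • S v = z}
      zero_mem' := ⟨0, 0, by simp⟩
      add_mem' := by
        rintro _ _ ⟨r, s, rfl⟩ ⟨r', s', rfl⟩
        exact ⟨r + r', s + s', by rw [add_smul, add_smul]; abel⟩
      smul_mem' := by
        rintro k _ ⟨r, s, rfl⟩
        exact ⟨k • r, k • s, by rw [smul_assoc, smul_assoc, smul_add]⟩ }
  have hUtop : U = ⊤ := by
    refine (hirr U (forall_invariant hgen ρ U ?_ ?_)).resolve_left fun h => hv0 ?_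
    · rintro _ ⟨r, s, rfl⟩
      exact ⟨_, _, (hA r s).symm⟩
    · rintro _ ⟨r, s, rfl⟩
      exact ⟨_, _, (hB r s).symm⟩
    · have : v ∈ U := ⟨1, 0, by simp⟩
      rwa [h, Submodule.mem_bot] at this
  have hlam : lam ≠ 0 := fun h0 => hC0 (congrArg Subtype.val h0)
  refine hasTorusPlane_of_field hp2 hgen ρ (E := E) (lam := lam) hlam (x := v) (y := S v)
    ⟨fun z z' h => ?_, fun w => ?_⟩ hA hB T haT
  · have h' : (z 0 - z' 0) • v + (z 1 - z' 1) • S v = 0 := by
      simp only at h
      rw [sub_smul, sub_smul, sub_add_sub_comm, h, sub_self]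
    have h1 := congrArg R h'
    rw [map_add, happ _ R hRC, happ _ R hRC, hRv, hRSv, smul_zero, zero_add, map_zero,
      show C v = lam • v from rfl, smul_smul, smul_eq_zero] at h1
    have h11 : z 1 - z' 1 = 0 := (mul_eq_zero.1 (h1.resolve_right hv0)).resolve_right hlam
    rw [h11, zero_smul, add_zero, smul_eq_zero] at h'
    funext i
    fin_cases i
    · exact sub_eq_zero.1 (h'.resolve_right hv0)
    · exact sub_eq_zero.1 h11
  · obtain ⟨r, s, hrs⟩ : w ∈ U := hUtop ▸ Submodule.mem_top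
    exact ⟨![r, s], by simpa using hrs⟩

/-- **A natural plane through a fixed vector, at a Sylow subgroup containing the fixing element.** -/
theorem exists_torus_plane (hp2 : p ≠ 2) [Finite H] {a b : H}
    (hgen : closure ({a, b} : Set H) = ⊤) {W : Type v} [AddCommGroup W] [Module (ZMod p) W]
    [Finite W] (ρ : H →* Module.End (ZMod p) W)
    (ha : (ρ a - 1) * (ρ a - 1) = 0) (hb : (ρ b - 1) * (ρ b - 1) = 0)
    {z : W} (haz : ρ a z = z)
    (hnp : ¬ ∀ h : H, ∃ k : ℕ, ∀ g : H, ρ (h ^ p ^ k) (ρ g z) = ρ g z)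
    (T : Sylow p H) (haT : a ∈ T) : HasTorusPlane p ρ (T : Subgroup H) z := by
  classical
  set R := ρ a - 1 with hR
  set S := ρ b - 1 with hS
  set C := R * S + S * R with hC
  have hRC : Commute C R := by
    show C * R = R * C
    rw [hC, add_mul, mul_add, mul_assoc S, ha, mul_zero, add_zero, ← mul_assoc R R, ha, zero_mul,
      zero_add, mul_assoc]
  have hSC : Commute C S := by
    show C * S = S * C
    rw [hC, add_mul, mul_add, mul_assoc R, hb, mul_zero, zero_add, ← mul_assoc S S, hb, zero_mul,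
      add_zero, mul_assoc]
  have : Finite (Module.End (ZMod p) W) := Finite.of_injective _ DFunLike.coe_injective
  obtain ⟨n, hn, hnn⟩ := exists_idempotent_pow C
  set f := C ^ n with hf
  have hfρ : ∀ g : H, Commute f (ρ g) := by
    intro g
    induction (hgen ▸ mem_top g : g ∈ closure ({a, b} : Set H)) using Subgroup.closure_induction with
    | mem g hg =>
      rcases hg with rfl | rfl
      · rw [show ρ g = R + 1 by simp [hR]]
        exact (hRC.pow_left n).add_right (Commute.one_right _)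
      · rw [show ρ g = S + 1 by simp [hS]]
        exact (hSC.pow_left n).add_right (Commute.one_right _)
    | one => rw [map_one]; exact Commute.one_right _
    | mul g g' _ _ h1 h2 => rw [map_mul]; exact h1.mul_right h2
    | inv g _ h1 =>
      have e : g ^ (orderOf g - 1) = g⁻¹ := eq_inv_of_mul_eq_one_left (by
        rw [← pow_succ, Nat.sub_add_cancel (orderOf_pos g), pow_orderOf_eq_one])
      rw [← e, map_pow]
      exact h1.pow_right _
  have hfapp : ∀ g u, f (ρ g u) = ρ g (f u) := fun g u => by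
    rw [← Module.End.mul_apply, (hfρ g).eq, Module.End.mul_apply]
  have hfz : f z ≠ 0 := by
    intro h0
    refine hnp fun h => ?_
    obtain ⟨k, hk⟩ := exists_pow_apply_eq hgen ρ ha hb n h
    exact ⟨k, fun g => hk _ (by rw [← hR, ← hS, ← hC, ← hf, hfapp, h0, map_zero])⟩
  -- the orbit of `f z`
  set V : Submodule (ZMod p) W := Submodule.span (ZMod p) (Set.range fun g => ρ g (f z)) with hV
  have hVf : V ≤ LinearMap.range f := by
    rw [hV, Submodule.span_le]
    rintro _ ⟨g, rfl⟩
    exact ⟨ρ g z, hfapp g z⟩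
  have hVinv : ∀ h, ∀ u ∈ V, ρ h u ∈ V := by
    intro h u hu
    rw [hV] at hu ⊢
    induction hu using Submodule.span_induction with
    | mem u hu =>
      obtain ⟨g, rfl⟩ := hu
      exact Submodule.subset_span ⟨h * g, by simp⟩
    | zero => simp
    | add u v _ _ h1 h2 => rw [map_add]; exact add_mem h1 h2
    | smul c u _ h1 => rw [map_smul]; exact Submodule.smul_mem _ _ h1
  have hfzV : f z ∈ V := Submodule.subset_span ⟨1, by simp⟩
  -- a maximal invariant subspace missing `f z`
  obtain ⟨U, hU⟩ := (Set.toFinite {U : Submodule (ZMod p) V |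
    (∀ h, ∀ u ∈ U, resHom ρ V hVinv h u ∈ U) ∧ (⟨f z, hfzV⟩ : V) ∉ U}).exists_maximal
    ⟨⊥, fun h u hu => by rw [Submodule.mem_bot] at hu ⊢; rw [hu, map_zero],
      fun h => hfz (congrArg Subtype.val ((Submodule.mem_bot _).1 h))⟩
  obtain ⟨⟨hUinv, hUz⟩, hUmax⟩ := hU
  set ρ' := quotHom (resHom ρ V hVinv) U hUinv with hρ'
  have ha' : (ρ' a - 1) * (ρ' a - 1) = 0 := quadratic_quot (quadratic_res ha)
  have hb' : (ρ' b - 1) * (ρ' b - 1) = 0 := quadratic_quot (quadratic_res hb)
  have hqz : (Submodule.Quotient.mk ⟨f z, hfzV⟩ : V ⧸ U) ≠ 0 := fun h =>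
    hUz ((Submodule.Quotient.mk_eq_zero U).1 h)
  have hirr : ∀ U' : Submodule (ZMod p) (V ⧸ U), (∀ h, ∀ u ∈ U', ρ' h u ∈ U') → U' = ⊥ ∨ U' = ⊤ := by
    intro U' hU'
    set U'' := U'.comap U.mkQ with hU''
    have hinv : ∀ h, ∀ u ∈ U'', resHom ρ V hVinv h u ∈ U'' := fun h u hu => hU' h _ hu
    have hle : U ≤ U'' := fun u hu => by
      show U.mkQ u ∈ U'
      rw [Submodule.mkQ_apply, (Submodule.Quotient.mk_eq_zero U).2 hu]
      exact zero_mem _
    by_cases hz : (⟨f z, hfzV⟩ : V) ∈ U''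
    · right
      rw [Submodule.eq_top_iff']
      intro u
      obtain ⟨⟨u, hu⟩, rfl⟩ := U.mkQ_surjective u
      suffices (⟨u, hu⟩ : V) ∈ U'' from this
      have h1 : V ≤ U''.map V.subtype := by
        conv_lhs => rw [hV]
        rw [Submodule.span_le]
        rintro _ ⟨g, rfl⟩
        exact ⟨_, hinv g _ hz, rfl⟩
      obtain ⟨u', hu', e⟩ := h1 hu
      rwa [show (⟨u, hu⟩ : V) = u' from Subtype.ext e.symm]
    · left
      have h1 := hUmax ⟨hinv, hz⟩ hle
      rw [Submodule.eq_bot_iff]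
      intro u hu
      obtain ⟨u, rfl⟩ := U.mkQ_surjective u
      exact (Submodule.Quotient.mk_eq_zero U).2 (h1 hu)
  have hC0 : (ρ' a - 1) * (ρ' b - 1) + (ρ' b - 1) * (ρ' a - 1) ≠ 0 := by
    intro h0
    -- `C` is injective on `V`, hence surjective
    have hCV : ∀ u ∈ V, C u ∈ V := fun u hu => by
      have hR' : ∀ w ∈ V, R w ∈ V := fun w hw => by
        rw [show R w = ρ a w - w by simp [hR]]; exact sub_mem (hVinv a w hw) hw
      have hS' : ∀ w ∈ V, S w ∈ V := fun w hw => by
        rw [show S w = ρ b w - w by simp [hS]]; exact sub_mem (hVinv b w hw) hw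
      rw [hC, LinearMap.add_apply, Module.End.mul_apply, Module.End.mul_apply]
      exact add_mem (hR' _ (hS' _ hu)) (hS' _ (hR' _ hu))
    have hinj : Function.Injective (C.restrict hCV) := by
      rw [← LinearMap.ker_eq_bot, Submodule.eq_bot_iff]
      rintro ⟨u, hu⟩ h
      have hu0 : C u = 0 := congrArg Subtype.val (LinearMap.mem_ker.1 h)
      obtain ⟨w, rfl⟩ := hVf hu
      refine Subtype.ext ?_
      show f w = 0
      obtain ⟨m, hm⟩ : ∃ m, n = m + 1 := ⟨n - 1, by omega⟩
      have e1 : f = C ^ m * C := by rw [hf, hm, pow_succ]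
      have e2 : f * f = f := by rw [hf, ← pow_add, hnn]
      calc f w = (f * f) w := by rw [e2]
        _ = f (f w) := rfl
        _ = (C ^ m) (C (f w)) := LinearMap.congr_fun e1 _
        _ = 0 := by rw [hu0, map_zero]
    obtain ⟨w, hw⟩ := (LinearMap.injective_iff_surjective.1 hinj) ⟨f z, hfzV⟩
    apply hqz
    rw [← hw]
    have := LinearMap.congr_fun h0 (Submodule.Quotient.mk w)
    rw [LinearMap.zero_apply] at this
    rw [← this]
    have eT : ∀ g : H, ∀ u : V, (ρ' g - 1) (Submodule.Quotient.mk u) =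
        Submodule.Quotient.mk ((resHom ρ V hVinv g - 1) u) := fun g u => by
      simp [hρ', quotHom]
    rw [LinearMap.add_apply, Module.End.mul_apply, Module.End.mul_apply, eT, eT, eT, eT,
      ← Submodule.Quotient.mk_add]
    congr 1
  have hav : ρ' a (Submodule.Quotient.mk ⟨f z, hfzV⟩) = Submodule.Quotient.mk ⟨f z, hfzV⟩ := by
    show Submodule.Quotient.mk _ = _
    congr 1
    refine Subtype.ext ?_
    show ρ a (f z) = f z
    rw [← hfapp, haz]
  have : Finite (V ⧸ U) := Finite.of_surjective _ U.mkQ_surjective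
  obtain ⟨X, α, W₁, c, hz, hXN, hαr, hcs, hcz, he⟩ :=
    hasTorusPlane_of_irreducible hp2 hgen ρ' ha' hb' hirr hC0 hqz hav T haT
  -- pull back
  let W₂ : Submodule (ZMod p) W := ((W₁.comap U.mkQ).map V.subtype).comap f
  have hW₂ : ∀ u : W₂, ∃ hu : f (u : W) ∈ V, U.mkQ ⟨f (u : W), hu⟩ ∈ W₁ := by
    rintro ⟨u, hu⟩
    obtain ⟨u', hu', e⟩ := hu
    have e' : (u' : W) = f u := e
    refine ⟨e' ▸ u'.2, ?_⟩
    rwa [show (⟨f u, e' ▸ u'.2⟩ : V) = u' from Subtype.ext e'.symm]
  let m : W₂ →ₗ[ZMod p] W₁ :=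
    { toFun := fun u => ⟨U.mkQ ⟨f (u : W), (hW₂ u).1⟩, (hW₂ u).2⟩
      map_add' := fun u v => Subtype.ext (by
        show U.mkQ _ = U.mkQ _ + U.mkQ _
        rw [← map_add]
        congr 1
        exact Subtype.ext (map_add f _ _))
      map_smul' := fun k u => Subtype.ext (by
        show U.mkQ _ = k • U.mkQ _
        rw [← map_smul]
        congr 1
        exact Subtype.ext (map_smul f _ _)) }
  have hm : Function.Surjective m := by
    rintro ⟨u, hu⟩
    obtain ⟨⟨u, huV⟩, rfl⟩ := U.mkQ_surjective u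
    obtain ⟨w, hw⟩ := hVf huV
    refine ⟨⟨w, ⟨u, huV⟩, hu, hw.symm⟩, Subtype.ext ?_⟩
    show U.mkQ _ = U.mkQ _
    congr 1
    exact Subtype.ext hw
  refine ⟨X, α, W₂, c.comp m, ⟨⟨f z, hfzV⟩, hz, rfl⟩, hXN, hαr, hcs.comp hm, hcz, fun x u => ?_⟩
  obtain ⟨h, hh⟩ := he x (m u)
  have hmem : ρ (x : H) (u : W) ∈ W₂ :=
    ⟨resHom ρ V hVinv (x : H) ⟨f (u : W), (hW₂ u).1⟩, h,
      show ρ (x : H) (f (u : W)) = f (ρ (x : H) (u : W)) from (hfapp _ _).symm⟩
  refine ⟨hmem, ?_⟩
  refine Eq.trans ?_ hh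
  show c (m ⟨_, hmem⟩) = _
  congr 1
  refine Subtype.ext ?_
  show U.mkQ _ = U.mkQ _
  congr 1
  exact Subtype.ext (hfapp _ _)

end Cfsg.Agent.Quadratic
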